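import Groth.Agent.Etalg.PairHens2
import Groth.Agent.Hensel.PairLift

/-!
# Étale neighbourhoods of a pair `(A, I)`

Étale algebras `A'` over `A` with `A/I → A'/IA'` bijective.
-/

set_option autoImplicit false
universe u v w

open TensorProduct

namespace K146.EtNbhd

/-- `A/I → A'/IA'` is bijective. -/
def QB (A : Type u) [CommRing A] (I : Ideal A) (A' : Type v) [CommRing A'] [Algebra A A'] : Prop :=
  Function.Bijective (Ideal.quotientMap (I.map (algebraMap A A')) (algebraMap A A')
    Ideal.le_comap_map)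

variable {A : Type u} [CommRing A] {I : Ideal A}

/-- The retraction `A' → A'/IA' ≅ A/I`. -/
theorem QB.exists_point {A' : Type v} [CommRing A'] [Algebra A A'] (h : QB A I A') :
    ∃ σ : A' →ₐ[A] A ⧸ I, ∀ x, σ x = 0 ↔ x ∈ I.map (algebraMap A A') := by
  let e : (A ⧸ I) ≃+* (A' ⧸ I.map (algebraMap A A')) := RingEquiv.ofBijective _ h
  let σ : A' →ₐ[A] A ⧸ I :=
    { (e.symm.toRingHom.comp (Ideal.Quotient.mk (I.map (algebraMap A A')))) with
      commutes' := fun a => by
        change e.symm (Ideal.Quotient.mk _ (algebraMap A A' a)) = _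
        rw [RingEquiv.symm_apply_eq]
        rfl }
  refine ⟨σ, fun x => ?_⟩
  change e.symm (Ideal.Quotient.mk _ x) = 0 ↔ _
  rw [map_eq_zero_iff _ e.symm.injective, Ideal.Quotient.eq_zero_iff_mem]

theorem qb_iff {A' : Type v} [CommRing A'] [Algebra A A'] :
    QB A I A' ↔ (∀ a : A, algebraMap A A' a ∈ I.map (algebraMap A A') → a ∈ I) ∧
      ∀ x : A', ∃ a : A, x - algebraMap A A' a ∈ I.map (algebraMap A A') := by
  constructor
  · rintro ⟨h1, h2⟩
    constructor
    · intro a ha
      rw [← Ideal.Quotient.eq_zero_iff_mem]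
      rw [injective_iff_map_eq_zero] at h1
      apply h1
      rw [Ideal.quotientMap_mk]
      exact Ideal.Quotient.eq_zero_iff_mem.mpr ha
    · intro x
      obtain ⟨y, hy⟩ := h2 (Ideal.Quotient.mk _ x)
      obtain ⟨a, rfl⟩ := Ideal.Quotient.mk_surjective y
      refine ⟨a, ?_⟩
      rw [Ideal.quotientMap_mk] at hy
      exact Ideal.Quotient.eq.mp hy.symm
  · rintro ⟨h1, h2⟩
    constructor
    · rw [injective_iff_map_eq_zero]
      intro x hx
      obtain ⟨a, rfl⟩ := Ideal.Quotient.mk_surjective x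
      rw [Ideal.quotientMap_mk, Ideal.Quotient.eq_zero_iff_mem] at hx
      exact Ideal.Quotient.eq_zero_iff_mem.mpr (h1 a hx)
    · intro y
      obtain ⟨x, rfl⟩ := Ideal.Quotient.mk_surjective y
      obtain ⟨a, ha⟩ := h2 x
      refine ⟨Ideal.Quotient.mk I a, ?_⟩
      rw [Ideal.quotientMap_mk]
      exact (Ideal.Quotient.eq.mpr ha).symm

/-- Criterion through a point. -/
theorem qb_of_point {A' : Type v} [CommRing A'] [Algebra A A'] (σ : A' →ₐ[A] A ⧸ I)
    (hσ : ∀ x, σ x = 0 → x ∈ I.map (algebraMap A A')) : QB A I A' := by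
  rw [qb_iff]
  have h0 : ∀ x ∈ I.map (algebraMap A A'), σ x = 0 := by
    intro x hx
    have h1 : I.map (algebraMap A A') ≤ RingHom.ker σ.toRingHom := by
      rw [Ideal.map_le_iff_le_comap]
      intro a ha
      change σ (algebraMap A A' a) = 0
      rw [σ.commutes]
      exact Ideal.Quotient.eq_zero_iff_mem.mpr ha
    exact h1 hx
  constructor
  · intro a ha
    have := h0 _ ha
    rw [σ.commutes] at this
    exact Ideal.Quotient.eq_zero_iff_mem.mp this
  · intro x
    obtain ⟨a, ha⟩ := Ideal.Quotient.mk_surjective (σ x)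
    refine ⟨a, hσ _ ?_⟩
    rw [map_sub, σ.commutes, sub_eq_zero, ← ha]
    rfl

/-- Localization at an element isolating the point. -/
theorem qb_away {B : Type v} [CommRing B] [Algebra A B] (σ : B →ₐ[A] A ⧸ I) (e : B) (he : σ e = 1)
    (hker : ∀ x, σ x = 0 → x * e ∈ I.map (algebraMap A B)) :
    QB A I (Localization.Away e) := by
  let B' := Localization.Away e
  have hu : ∀ y : Submonoid.powers e, IsUnit (σ y) := by
    rintro ⟨_, n, rfl⟩
    simp [he]
  let σ' : B' →ₐ[A] A ⧸ I := IsLocalization.liftAlgHom (M := Submonoid.powers e) (f := σ) hu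
  have hσ' : ∀ b : B, σ' (algebraMap B B' b) = σ b := fun b => IsLocalization.lift_eq _ b
  have hmem : ∀ x ∈ I.map (algebraMap A B), algebraMap B B' x ∈ I.map (algebraMap A B') := by
    intro x hx
    have := Ideal.mem_map_of_mem (algebraMap B B') hx
    rwa [Ideal.map_map, ← IsScalarTower.algebraMap_eq] at this
  have hue : IsUnit (algebraMap B B' e) := IsLocalization.Away.algebraMap_isUnit e
  refine qb_of_point σ' fun x hx => ?_
  obtain ⟨b, ⟨_, n, rfl⟩, rfl⟩ := IsLocalization.exists_mk'_eq (Submonoid.powers e) x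
  have h1 : σ b = 0 := by
    have h2 := IsLocalization.mk'_spec B' b (⟨e ^ n, n, rfl⟩ : Submonoid.powers e)
    have h3 := congrArg σ' h2
    rw [map_mul, hσ', hσ'] at h3
    rw [← h3]
    change σ' _ * _ = 0
    rw [hx, zero_mul]
  have h4 := hmem _ (hker b h1)
  rw [map_mul, Ideal.mul_unit_mem_iff_mem _ hue] at h4
  have h5 : IsLocalization.mk' B' b (⟨e ^ n, n, rfl⟩ : Submonoid.powers e) *
      algebraMap B B' (e ^ n) = algebraMap B B' b := IsLocalization.mk'_spec B' b _
  have h6 : IsUnit (algebraMap B B' (e ^ n)) := by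
    rw [map_pow]
    exact hue.pow n
  rw [← Ideal.mul_unit_mem_iff_mem _ h6]
  change IsLocalization.mk' B' b (⟨e ^ n, n, rfl⟩ : Submonoid.powers e) *
      algebraMap B B' (e ^ n) ∈ _
  rw [h5]
  exact h4

/-- Every pointed étale algebra has a localization which is an étale neighbourhood of the pair. -/
theorem exists_nbhd {R : Type u} [CommRing R] [Algebra A R] [Algebra.Etale A R]
    (σ : R →ₐ[A] A ⧸ I) : ∃ e : R, σ e = 1 ∧ QB A I (Localization.Away e) := by
  obtain ⟨e, he, hker⟩ := Groth.Agent.Etalg.PairHens.exists_mul_mem σ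
  exact ⟨e, he, qb_away σ e he hker⟩

instance etale_away {R : Type u} [CommRing R] [Algebra A R] [Algebra.Etale A R] (e : R) :
    Algebra.Etale A (Localization.Away e) :=
  Algebra.Etale.comp A R (Localization.Away e)

/-- A neighbourhood can be shrunk by an element congruent to `1`. -/
theorem QB.away {A' : Type v} [CommRing A'] [Algebra A A'] (h : QB A I A') (e : A')
    (he : e - 1 ∈ I.map (algebraMap A A')) : QB A I (Localization.Away e) := by
  obtain ⟨σ, hσ⟩ := h.exists_point
  refine qb_away σ e ?_ fun x hx => Ideal.mul_mem_right _ _ ((hσ x).mp hx)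
  have := (hσ _).mpr he
  rwa [map_sub, map_one, sub_eq_zero] at this

/-- Directedness. -/
theorem exists_dominating (A₁ A₂ : Type u) [CommRing A₁] [Algebra A A₁] [Algebra.Etale A A₁]
    [CommRing A₂] [Algebra A A₂] [Algebra.Etale A A₂] (h₁ : QB A I A₁) (h₂ : QB A I A₂) :
    ∃ (A₃ : Type u) (_ : CommRing A₃) (_ : Algebra A A₃) (_ : Algebra.Etale A A₃),
      QB A I A₃ ∧ Nonempty (A₁ →ₐ[A] A₃) ∧ Nonempty (A₂ →ₐ[A] A₃) := by
  obtain ⟨σ₁, -⟩ := h₁.exists_point
  obtain ⟨σ₂, -⟩ := h₂.exists_point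
  have : Algebra.Etale A (A₁ ⊗[A] A₂) := Algebra.Etale.comp A A₁ (A₁ ⊗[A] A₂)
  obtain ⟨e, -, he⟩ := exists_nbhd (R := A₁ ⊗[A] A₂)
    (Algebra.TensorProduct.lift σ₁ σ₂ (fun _ _ => Commute.all _ _))
  exact ⟨Localization.Away e, inferInstance, inferInstance, inferInstance, he,
    ⟨(IsScalarTower.toAlgHom A (A₁ ⊗[A] A₂) _).comp Algebra.TensorProduct.includeLeft⟩,
    ⟨(IsScalarTower.toAlgHom A (A₁ ⊗[A] A₂) _).comp Algebra.TensorProduct.includeRight⟩⟩

/-- Uniqueness of the point of a neighbourhood. -/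
theorem QB.point_unique {A' : Type v} [CommRing A'] [Algebra A A'] (h : QB A I A')
    {C : Type w} [CommRing C] [Algebra A C] (f g : A' →ₐ[A] C) (x : A') :
    f x - g x ∈ I.map (algebraMap A C) := by
  obtain ⟨a, ha⟩ := (qb_iff.mp h).2 x
  have key : ∀ f : A' →ₐ[A] C, f x - algebraMap A C a ∈ I.map (algebraMap A C) := by
    intro f
    have h1 := Ideal.mem_map_of_mem f.toRingHom ha
    rw [Ideal.map_map, show f.toRingHom.comp (algebraMap A A') = algebraMap A C from
      f.comp_algebraMap] at h1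
    have h2 : f.toRingHom (x - algebraMap A A' a) = f x - algebraMap A C a := by
      change f (x - algebraMap A A' a) = _
      rw [map_sub, f.commutes]
    rwa [h2] at h1
  have := Ideal.sub_mem _ (key f) (key g)
  rwa [sub_sub_sub_cancel_right] at this

/-- Coequalizing. -/
theorem exists_coequalizing (A₁ A₂ : Type u) [CommRing A₁] [Algebra A A₁] [Algebra.Etale A A₁]
    [CommRing A₂] [Algebra A A₂] [Algebra.Etale A A₂] (h₁ : QB A I A₁) (h₂ : QB A I A₂)
    (f g : A₁ →ₐ[A] A₂) :
    ∃ (A₃ : Type u) (_ : CommRing A₃) (_ : Algebra A A₃) (_ : Algebra.Etale A A₃),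
      QB A I A₃ ∧ ∃ h : A₂ →ₐ[A] A₃, h.comp f = h.comp g := by
  obtain ⟨t, ht₁, ht₂⟩ := (Algebra.FormallyUnramified.iff_exists_tensorProduct
    (R := A) (S := A₁)).1 inferInstance
  let F : A₁ ⊗[A] A₁ →ₐ[A] A₂ := Algebra.TensorProduct.lift f g (fun _ _ => Commute.all _ _)
  have h1 : ∀ x, (g x - f x) * F t = 0 := by
    intro x
    have h2 := congrArg F (ht₁ x)
    rw [map_mul, map_zero, map_sub] at h2
    simpa [F] using h2
  have hmod : ∀ z : A₁ ⊗[A] A₁, F z - f (Algebra.TensorProduct.lmul' A z) ∈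
      I.map (algebraMap A A₂) := by
    intro z
    induction z with
    | zero => simp
    | add x y hx hy =>
      rw [map_add, map_add, map_add, add_sub_add_comm]
      exact Ideal.add_mem _ hx hy
    | tmul x y =>
      rw [Algebra.TensorProduct.lift_tmul, Algebra.TensorProduct.lmul'_apply_tmul, map_mul,
        ← mul_sub]
      exact Ideal.mul_mem_left _ _ (h₁.point_unique g f y)
  have h3 : F t - 1 ∈ I.map (algebraMap A A₂) := by
    have := hmod t
    rwa [ht₂, map_one] at this
  refine ⟨Localization.Away (F t), inferInstance, inferInstance, inferInstance, h₂.away _ h3,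
    IsScalarTower.toAlgHom A A₂ _, ?_⟩
  ext x
  have hu : IsUnit (algebraMap A₂ (Localization.Away (F t)) (F t)) :=
    IsLocalization.Away.algebraMap_isUnit (F t)
  change algebraMap A₂ (Localization.Away (F t)) (f x) =
    algebraMap A₂ (Localization.Away (F t)) (g x)
  have h4 := congrArg (algebraMap A₂ (Localization.Away (F t))) (h1 x)
  rw [map_mul, map_zero, map_sub, hu.mul_left_eq_zero, sub_eq_zero] at h4
  exact h4.symm

/-- `B` is flat over `A'` if `B` is flat over `A` and `A'` is unramified over `A`. -/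
theorem flat_of_unramified {A' : Type v} [CommRing A'] [Algebra A A']
    [Algebra.FormallyUnramified A A'] [Algebra.EssFiniteType A A'] {B : Type w} [CommRing B]
    [Algebra A B] [Algebra A' B] [IsScalarTower A A' B] [Module.Flat A B] : Module.Flat A' B := by
  obtain ⟨t, ht₁, ht₂⟩ := (Algebra.FormallyUnramified.iff_exists_tensorProduct
    (R := A) (S := A')).1 inferInstance
  -- `A' ⊗ B` is flat over `A'`
  let T : A' ⊗[A] A' →ₐ[A] A' ⊗[A] B :=
    Algebra.TensorProduct.map (AlgHom.id A A') (IsScalarTower.toAlgHom A A' B)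
  let μ : A' ⊗[A] B →ₐ[A'] B := Algebra.TensorProduct.lift (Algebra.ofId A' B)
    (IsScalarTower.toAlgHom A B B) (fun _ _ => Commute.all _ _)
  have hμT : ∀ z, μ (T z) = algebraMap A' B (Algebra.TensorProduct.lmul' A z) := by
    intro z
    induction z with
    | zero => simp
    | add x y hx hy => simp only [map_add, hx, hy]
    | tmul x y =>
      simp [T, μ, Algebra.ofId_apply]
  have hT : ∀ x : A', ((1 : A') ⊗ₜ[A] algebraMap A' B x - x ⊗ₜ[A] (1 : B)) * T t = 0 := by
    intro x
    have h2 := congrArg T (ht₁ x)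
    rw [map_mul, map_zero, map_sub] at h2
    simpa [T] using h2
  let s : B →ₗ[A'] A' ⊗[A] B :=
    { toFun := fun b => ((1 : A') ⊗ₜ[A] b) * T t
      map_add' := fun b b' => by rw [TensorProduct.tmul_add, add_mul]
      map_smul' := fun a b => by
        have h3 : (1 : A') ⊗ₜ[A] (a • b) = ((1 : A') ⊗ₜ[A] algebraMap A' B a) *
            ((1 : A') ⊗ₜ[A] b) := by
          rw [Algebra.TensorProduct.tmul_mul_tmul, one_mul, Algebra.smul_def]
        have h4 : a • (((1 : A') ⊗ₜ[A] b) * T t) = (a ⊗ₜ[A] (1 : B)) *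
            (((1 : A') ⊗ₜ[A] b) * T t) := by
          rw [Algebra.smul_def]
          rfl
        change (1 : A') ⊗ₜ[A] (a • b) * T t = a • (((1 : A') ⊗ₜ[A] b) * T t)
        rw [h3, h4]
        have := hT a
        linear_combination ((1 : A') ⊗ₜ[A] b) * this }
  have hμs : μ.toLinearMap.comp s = LinearMap.id := by
    ext b
    change μ (((1 : A') ⊗ₜ[A] b) * T t) = b
    rw [map_mul, hμT, ht₂, map_one, mul_one]
    simp [μ]
  exact Module.Flat.of_retract s μ.toLinearMap hμs

end K146.EtNbhd
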