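import Mathlib.RingTheory.Flat.Basic
import Mathlib.FieldTheory.Finite.Basic
import Mathlib.RingTheory.TensorProduct.Basic
import Mathlib.Algebra.Ring.Action.Basic
import Mathlib.LinearAlgebra.LinearIndependent.Basic
import Mathlib.Algebra.Module.ZMod

/-!
# Two-cocycles with values in finite `p`-torsion modules and Artin–Schreier closed fields

`H` acts on a field `Ω` of characteristic `p` in which every Artin–Schreier equation is solvable, and on an
`𝔽_p`-vector space `V`. Every two-cocycle of a finite quotient of `H` with values in `V` becomes a coboundary over `H`.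
-/

set_option autoImplicit false
set_option linter.unusedSectionVars false

open TensorProduct

namespace K146.PEmbed

section AS

variable (p : ℕ) [Fact p.Prime] (Ω : Type*) [Field Ω] [CharP Ω p] [Algebra (ZMod p) Ω]

/-- The Artin–Schreier map `x ↦ x ^ p - x`. -/
noncomputable def wp : Ω →ₗ[ZMod p] Ω :=
  (frobenius Ω p).toAddMonoidHom.toZModLinearMap p - LinearMap.id

lemma wp_apply (x : Ω) : wp p Ω x = x ^ p - x := rfl

lemma exact_wp : Function.Exact (Algebra.linearMap (ZMod p) Ω) (wp p Ω) := by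
  intro x
  rw [wp_apply, sub_eq_zero, ← Subfield.mem_bot_iff_pow_eq_self (F := Ω) (p := p),
    ← ZMod.fieldRange_castHom_eq_bot p, RingHom.mem_fieldRange]
  have h : (ZMod.castHom (dvd_refl p) Ω) = algebraMap (ZMod p) Ω := Subsingleton.elim _ _
  rw [h]
  rfl

variable (V : Type*) [AddCommGroup V] [Module (ZMod p) V]

lemma exists_of_wp_eq_zero (w : V ⊗[ZMod p] Ω) (hw : (wp p Ω).lTensor V w = 0) :
    ∃ v : V, w = v ⊗ₜ 1 := by
  obtain ⟨y, hy⟩ := (Module.Flat.lTensor_exact V (exact_wp p Ω) w).1 hw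
  refine ⟨TensorProduct.rid _ _ y, ?_⟩
  have h1 : y = (TensorProduct.rid (ZMod p) V).symm (TensorProduct.rid _ _ y) := by simp
  rw [← hy]
  conv_lhs => rw [h1]
  rw [TensorProduct.rid_symm_apply, LinearMap.lTensor_tmul, Algebra.linearMap_apply, map_one]

lemma eq_zero_of_tmul_one (v : V) (h : v ⊗ₜ[ZMod p] (1 : Ω) = 0) : v = 0 := by
  have hinj : Function.Injective ((Algebra.linearMap (ZMod p) Ω).lTensor V) :=
    Module.Flat.lTensor_preserves_injective_linearMap _ (algebraMap (ZMod p) Ω).injective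
  have h1 : (Algebra.linearMap (ZMod p) Ω).lTensor V (v ⊗ₜ 1) = 0 := by
    rw [LinearMap.lTensor_tmul, Algebra.linearMap_apply, map_one, h]
  have h2 := hinj (h1.trans (map_zero _).symm)
  have h3 := congrArg (TensorProduct.rid (ZMod p) V) h2
  simpa using h3

lemma exists_wp (hAS : ∀ a : Ω, ∃ x : Ω, x ^ p - x = a) (w : V ⊗[ZMod p] Ω) :
    ∃ w', (wp p Ω).lTensor V w' = w := by
  induction w using TensorProduct.induction_on with
  | zero => exact ⟨0, map_zero _⟩
  | add x y hx hy =>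
    obtain ⟨a, rfl⟩ := hx
    obtain ⟨b, rfl⟩ := hy
    exact ⟨a + b, map_add _ _ _⟩
  | tmul v x =>
    obtain ⟨y, hy⟩ := hAS x
    exact ⟨v ⊗ₜ y, by rw [LinearMap.lTensor_tmul, wp_apply, hy]⟩

end AS

section Action

variable (p : ℕ) [Fact p.Prime] {Ω : Type*} [Field Ω] [CharP Ω p] [Algebra (ZMod p) Ω]
  {V : Type*} [AddCommGroup V] [Module (ZMod p) V] {H : Type*} [Group H] [MulSemiringAction H Ω]
  (A : H →* Module.End (ZMod p) V)

variable (Ω) in
/-- The action of `h` on `Ω` as a linear map. -/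
noncomputable def Rl (h : H) : Ω →ₗ[ZMod p] Ω :=
  (MulSemiringAction.toRingHom H Ω h).toAddMonoidHom.toZModLinearMap p

lemma Rl_apply (h : H) (x : Ω) : Rl p Ω h x = h • x := rfl

variable (Ω) in
/-- The diagonal action on `V ⊗ Ω`. -/
noncomputable def act (h : H) : V ⊗[ZMod p] Ω →ₗ[ZMod p] V ⊗[ZMod p] Ω :=
  TensorProduct.map (A h) (Rl p Ω h)

lemma act_tmul (h : H) (v : V) (x : Ω) : act p Ω A h (v ⊗ₜ x) = A h v ⊗ₜ (h • x) := rfl

lemma act_mul (h h' : H) (w : V ⊗[ZMod p] Ω) :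
    act p Ω A (h * h') w = act p Ω A h (act p Ω A h' w) := by
  induction w using TensorProduct.induction_on with
  | zero => simp
  | add x y hx hy => rw [map_add, map_add, map_add, hx, hy]
  | tmul v x => rw [act_tmul, act_tmul, act_tmul, map_mul, mul_smul]; rfl

lemma act_wp (h : H) (w : V ⊗[ZMod p] Ω) :
    (wp p Ω).lTensor V (act p Ω A h w) = act p Ω A h ((wp p Ω).lTensor V w) := by
  induction w using TensorProduct.induction_on with
  | zero => simp
  | add x y hx hy => rw [map_add, map_add, map_add, map_add, hx, hy]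
  | tmul v x =>
    rw [act_tmul, LinearMap.lTensor_tmul, LinearMap.lTensor_tmul, act_tmul, wp_apply, wp_apply,
      smul_sub, smul_pow']

variable (V) in
/-- Multiplication by an element of `Ω` on `V ⊗ Ω`. -/
noncomputable def ml (θ : Ω) : V ⊗[ZMod p] Ω →ₗ[ZMod p] V ⊗[ZMod p] Ω :=
  (LinearMap.mulLeft (ZMod p) θ).lTensor V

lemma ml_tmul (θ : Ω) (v : V) (x : Ω) : ml p V θ (v ⊗ₜ[ZMod p] x) = v ⊗ₜ (θ * x) := rfl

lemma ml_one (w : V ⊗[ZMod p] Ω) : ml p V (1 : Ω) w = w := by
  induction w using TensorProduct.induction_on with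
  | zero => simp
  | add x y hx hy => rw [map_add, hx, hy]
  | tmul v x => rw [ml_tmul, one_mul]

lemma ml_sum {ι : Type*} (s : Finset ι) (f : ι → Ω) (w : V ⊗[ZMod p] Ω) :
    ∑ i ∈ s, ml p V (f i) w = ml p V (∑ i ∈ s, f i) w := by
  induction w using TensorProduct.induction_on with
  | zero => simp
  | add x y hx hy => simp only [map_add, Finset.sum_add_distrib, hx, hy]
  | tmul v x => simp only [ml_tmul]; rw [← TensorProduct.tmul_sum, Finset.sum_mul]

lemma act_ml (h : H) (θ : Ω) (w : V ⊗[ZMod p] Ω) :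
    act p Ω A h (ml p V θ w) = ml p V (h • θ) (act p Ω A h w) := by
  induction w using TensorProduct.induction_on with
  | zero => simp
  | add x y hx hy => rw [map_add, map_add, map_add, map_add, hx, hy]
  | tmul v x => rw [ml_tmul, act_tmul, act_tmul, ml_tmul, smul_mul']

/-- Every element of `V ⊗ Ω` is fixed by the elements fixing `V` and a finite subset of `Ω`. -/
lemma exists_finset_act (w : V ⊗[ZMod p] Ω) : ∃ T : Finset Ω, ∀ h : H, A h = 1 →
    (∀ x ∈ T, h • x = x) → act p Ω A h w = w := by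
  classical
  induction w using TensorProduct.induction_on with
  | zero => exact ⟨∅, fun h _ _ => map_zero _⟩
  | add x y hx hy =>
    obtain ⟨T, hT⟩ := hx
    obtain ⟨T', hT'⟩ := hy
    refine ⟨T ∪ T', fun h h1 h2 => ?_⟩
    rw [map_add, hT h h1 fun x hx => h2 x (Finset.mem_union_left _ hx),
      hT' h h1 fun x hx => h2 x (Finset.mem_union_right _ hx)]
  | tmul v x =>
    refine ⟨{x}, fun h h1 h2 => ?_⟩
    rw [act_tmul, h1, h2 x (Finset.mem_singleton_self x)]
    rfl

end Action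

section Sum

variable {H : Type*} [Group H] (N : Subgroup H) [N.Normal] [Fintype (H ⧸ N)]

lemma sum_out {M : Type*} [AddCommMonoid M] (f : H → M) (hf : ∀ h, ∀ n ∈ N, f (h * n) = f h) (h : H) :
    ∑ q : H ⧸ N, f (h * q.out) = ∑ q : H ⧸ N, f q.out := by
  let g : H ⧸ N → M := Quotient.lift f (by
    intro a b hab
    have h1 : a⁻¹ * b ∈ N := QuotientGroup.leftRel_apply.1 hab
    have h2 := hf a _ h1
    rw [mul_inv_cancel_left] at h2
    exact h2.symm)
  have hg : ∀ x : H, f x = g (QuotientGroup.mk x) := fun x => rfl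
  have h1 : ∀ q : H ⧸ N, f q.out = g q := fun q => by rw [hg, QuotientGroup.out_eq']
  have h2 : ∀ q : H ⧸ N, f (h * q.out) = g ((QuotientGroup.mk h : H ⧸ N) * q) := fun q => by
    rw [hg, QuotientGroup.mk_mul, QuotientGroup.out_eq']
  simp only [h1, h2]
  exact Fintype.sum_equiv (Equiv.mulLeft (QuotientGroup.mk h : H ⧸ N)) _ _ fun q => rfl

end Sum

section Main

variable {p : ℕ} [Fact p.Prime] {Ω : Type*} [Field Ω] [CharP Ω p] [Algebra (ZMod p) Ω]
  {V : Type*} [AddCommGroup V] [Module (ZMod p) V] {H : Type*} [Group H] [MulSemiringAction H Ω]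
  (A : H →* Module.End (ZMod p) V)

theorem exists_cochain (hAS : ∀ a : Ω, ∃ x : Ω, x ^ p - x = a) (N : Subgroup H) [N.Normal]
    [Fintype (H ⧸ N)] (hA : ∀ n ∈ N, A n = 1) (c : H → H → V)
    (hc : ∀ a b d, A a (c b d) - c (a * b) d + c a (b * d) = c a b)
    (hc1 : ∀ a b, ∀ n ∈ N, c a (b * n) = c a b) (hc2 : ∀ a b, ∀ n ∈ N, c (a * n) b = c a b)
    (hc0 : ∀ n ∈ N, ∀ b, c n b = 0)
    (θ : Ω) (hθ : ∀ n ∈ N, n • θ = θ) (hTr : ∑ q : H ⧸ N, q.out • θ = 1) :
    ∃ b : H → V, (∀ h h', c h h' = A h (b h') - b (h * h') + b h) ∧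
      ∃ T : Finset Ω, ∀ h ∈ N, (∀ x ∈ T, h • x = x) → b h = 0 := by
  classical
  have hθ' : ∀ (h : H), ∀ n ∈ N, (h * n) • θ = h • θ := fun h n hn => by rw [mul_smul, hθ n hn]
  have hTr' : ∀ h : H, ∑ q : H ⧸ N, (h * q.out) • θ = 1 := fun h => by
    rw [sum_out N (fun x => x • θ) hθ' h, hTr]
  let b0 : H → V ⊗[ZMod p] Ω := fun h => ∑ q : H ⧸ N, c h q.out ⊗ₜ ((h * q.out) • θ)
  have hb0 : ∀ h h', act p Ω A h (b0 h') - b0 (h * h') + b0 h = c h h' ⊗ₜ 1 := by
    intro h h'
    have h1 : b0 h = ∑ q : H ⧸ N, c h (h' * q.out) ⊗ₜ ((h * (h' * q.out)) • θ) :=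
      (sum_out N (fun x => (c h x ⊗ₜ[ZMod p] ((h * x) • θ))) (fun x n hn => by
        rw [hc1 _ _ n hn, ← mul_assoc, hθ' _ n hn]) h').symm
    have h2 : act p Ω A h (b0 h') = ∑ q : H ⧸ N, A h (c h' q.out) ⊗ₜ ((h * (h' * q.out)) • θ) := by
      change act p Ω A h (∑ q : H ⧸ N, c h' q.out ⊗ₜ ((h' * q.out) • θ)) = _
      rw [map_sum]
      refine Finset.sum_congr rfl fun q _ => ?_
      rw [act_tmul, ← mul_smul]
    have h3 : b0 (h * h') = ∑ q : H ⧸ N, c (h * h') q.out ⊗ₜ ((h * (h' * q.out)) • θ) := by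
      refine Finset.sum_congr rfl fun q _ => ?_
      rw [mul_assoc]
    rw [h1, h2, h3, ← Finset.sum_sub_distrib, ← Finset.sum_add_distrib]
    simp only [← TensorProduct.sub_tmul, ← TensorProduct.add_tmul, hc]
    rw [← TensorProduct.tmul_sum]
    congr 1
    simp only [← mul_assoc]
    exact hTr' _
  have hb0N : ∀ h, ∀ n ∈ N, b0 (h * n) = b0 h := by
    intro h n hn
    refine Finset.sum_congr rfl fun q _ => ?_
    rw [hc2 _ _ n hn]
    congr 1
    have h1 : h * n * q.out = h * q.out * (q.out⁻¹ * n * q.out) := by group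
    rw [h1, hθ' _ _ ?_]
    have := (‹N.Normal›).conj_mem n hn (q.out)⁻¹
    rwa [inv_inv] at this
  let a : H → V ⊗[ZMod p] Ω := fun h => (wp p Ω).lTensor V (b0 h)
  have ha : ∀ h h', a (h * h') = a h + act p Ω A h (a h') := by
    intro h h'
    have h1 := congrArg ((wp p Ω).lTensor V) (hb0 h h')
    rw [LinearMap.lTensor_tmul, wp_apply, one_pow, sub_self, TensorProduct.tmul_zero, map_add,
      map_sub, act_wp] at h1
    change act p Ω A h (a h') - a (h * h') + a h = 0 at h1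
    have h2 : a h + act p Ω A h (a h') - a (h * h') = 0 := by rw [← h1]; abel
    exact (sub_eq_zero.1 h2).symm
  have haN : ∀ h, ∀ n ∈ N, a (h * n) = a h := fun h n hn => by
    change (wp p Ω).lTensor V (b0 (h * n)) = _
    rw [hb0N h n hn]
  let e : V ⊗[ZMod p] Ω := ∑ q : H ⧸ N, ml p V (q.out • θ) (a q.out)
  have he : ∀ h, act p Ω A h e = e - a h := by
    intro h
    have h1 : e = ∑ q : H ⧸ N, ml p V ((h * q.out) • θ) (a (h * q.out)) :=
      (sum_out N (fun x => ml p V (x • θ) (a x)) (fun x n hn => by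
        rw [haN _ n hn, hθ' _ n hn]) h).symm
    have h2 : act p Ω A h e = ∑ q : H ⧸ N, ml p V ((h * q.out) • θ) (act p Ω A h (a q.out)) := by
      change act p Ω A h (∑ q : H ⧸ N, ml p V (q.out • θ) (a q.out)) = _
      rw [map_sum]
      refine Finset.sum_congr rfl fun q _ => ?_
      rw [act_ml, ← mul_smul]
    have h3 : e = ∑ q : H ⧸ N, ml p V ((h * q.out) • θ) (a h) +
        ∑ q : H ⧸ N, ml p V ((h * q.out) • θ) (act p Ω A h (a q.out)) := by
      rw [← Finset.sum_add_distrib, h1]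
      refine Finset.sum_congr rfl fun q _ => ?_
      rw [ha, map_add]
    rw [ml_sum, hTr', ml_one, ← h2] at h3
    exact eq_sub_of_add_eq' h3.symm
  obtain ⟨e', he'⟩ := exists_wp p Ω V hAS e
  let bΩ : H → V ⊗[ZMod p] Ω := fun h => b0 h - (e' - act p Ω A h e')
  have hbΩ : ∀ h, ∃ v : V, bΩ h = v ⊗ₜ 1 := by
    intro h
    apply exists_of_wp_eq_zero
    change (wp p Ω).lTensor V (b0 h - (e' - act p Ω A h e')) = 0
    rw [map_sub, map_sub, act_wp, he', he]
    change a h - _ = 0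
    abel
  choose b hb using hbΩ
  refine ⟨b, fun h h' => ?_, ?_⟩
  · have h1 : (c h h' - (A h (b h') - b (h * h') + b h)) ⊗ₜ[ZMod p] (1 : Ω) = 0 := by
      have h2 : A h (b h') ⊗ₜ[ZMod p] (1 : Ω) = act p Ω A h (bΩ h') := by
        rw [hb, act_tmul, smul_one]
      rw [TensorProduct.sub_tmul, TensorProduct.add_tmul, TensorProduct.sub_tmul, h2, ← hb, ← hb,
        ← hb0 h h']
      change _ - (act p Ω A h (b0 h' - (e' - act p Ω A h' e')) -
        (b0 (h * h') - (e' - act p Ω A (h * h') e')) + (b0 h - (e' - act p Ω A h e'))) = 0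
      rw [map_sub, map_sub, ← act_mul]
      abel
    exact sub_eq_zero.1 (eq_zero_of_tmul_one p Ω V _ h1)
  · obtain ⟨T, hT⟩ := exists_finset_act p A e'
    refine ⟨T, fun h hN hx => ?_⟩
    apply eq_zero_of_tmul_one p Ω V
    rw [← hb]
    change b0 h - (e' - act p Ω A h e') = 0
    rw [hT h (hA h hN) hx, sub_self, sub_zero]
    change ∑ q : H ⧸ N, c h q.out ⊗ₜ ((h * q.out) • θ) = 0
    exact Finset.sum_eq_zero fun q _ => by rw [hc0 h hN, TensorProduct.zero_tmul]

end Main

end K146.PEmbed
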