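import Mathlib.RingTheory.AdicCompletion.LocalRing
import Mathlib.RingTheory.AdicCompletion.RingHom
import Mathlib.RingTheory.AdicCompletion.Completeness
import Mathlib.RingTheory.Filtration
import Mathlib.RingTheory.UniqueFactorizationDomain.Finite
import Mathlib.RingTheory.UniqueFactorizationDomain.Basic
import Mathlib.RingTheory.LocalRing.MaximalIdeal.Basic

/-!
# Completions of local rings and divisors in complete factorial rings
-/

set_option autoImplicit false
universe u v

open IsLocalRing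

namespace K146.Cpl

/-- A homomorphism from a local ring to a complete ring extends to the completion. -/
theorem exists_extend {A : Type u} {B : Type v} [CommRing A] [IsLocalRing A] [CommRing B]
    (𝔫 : Ideal B) [IsAdicComplete 𝔫 B] (f : A →+* B) (hf : (maximalIdeal A).map f ≤ 𝔫) :
    ∃ g : AdicCompletion (maximalIdeal A) A →+* B,
      g.comp (algebraMap A (AdicCompletion (maximalIdeal A) A)) = f := by
  have hle : ∀ n, maximalIdeal A ^ n ≤ (𝔫 ^ n).comap f := fun n => by
    rw [← Ideal.map_le_iff_le_comap, Ideal.map_pow]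
    exact Ideal.pow_right_mono hf n
  let F : (n : ℕ) → AdicCompletion (maximalIdeal A) A →+* B ⧸ 𝔫 ^ n := fun n =>
    (Ideal.quotientMap (𝔫 ^ n) f (hle n)).comp (AdicCompletion.evalₐ (maximalIdeal A) n).toRingHom
  have hF : ∀ {m n : ℕ} (h : m ≤ n), (Ideal.Quotient.factorPow 𝔫 h).comp (F n) = F m := by
    intro m n h
    refine RingHom.ext fun x => ?_
    refine AdicCompletion.induction_on (maximalIdeal A) A (p := fun x =>
      ((Ideal.Quotient.factorPow 𝔫 h).comp (F n)) x = (F m) x) x fun s => ?_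
    have h1 : ∀ k, F k (AdicCompletion.mk (maximalIdeal A) A s) =
        Ideal.Quotient.mk (𝔫 ^ k) (f (s.val k)) := by
      intro k
      change Ideal.quotientMap (𝔫 ^ k) f (hle k) (AdicCompletion.evalₐ (maximalIdeal A) k
        (AdicCompletion.mk (maximalIdeal A) A s)) = _
      rw [AdicCompletion.evalₐ_mk, Ideal.quotientMap_mk]
    rw [RingHom.comp_apply, h1, h1]
    change Ideal.Quotient.mk (𝔫 ^ m) (f (s.val n)) = Ideal.Quotient.mk (𝔫 ^ m) (f (s.val m))
    rw [Ideal.Quotient.eq, ← map_sub]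
    apply hle m
    rw [← Ideal.Quotient.eq]
    exact AdicCompletion.Ideal.mk_eq_mk (maximalIdeal A) h s
  refine ⟨IsAdicComplete.liftRingHom 𝔫 F hF, ?_⟩
  ext a
  rw [IsHausdorff.eq_iff_smodEq (I := 𝔫)]
  intro n
  rw [SModEq.sub_mem, smul_eq_mul, Ideal.mul_top, ← Ideal.Quotient.eq]
  rw [RingHom.comp_apply, IsAdicComplete.mk_liftRingHom]
  change Ideal.quotientMap (𝔫 ^ n) f (hle n) (AdicCompletion.evalₐ (maximalIdeal A) n
    (algebraMap A _ a)) = _
  rw [AdicCompletion.algebraMap_apply]
  simp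

/-- Density of a Noetherian local ring in its completion. -/
theorem exists_sub_mem {A : Type u} [CommRing A] [IsLocalRing A] [IsNoetherianRing A]
    (x : AdicCompletion (maximalIdeal A) A) (n : ℕ) :
    ∃ a : A, x - algebraMap A _ a ∈
      (maximalIdeal A ^ n).map (algebraMap A (AdicCompletion (maximalIdeal A) A)) := by
  obtain ⟨a, ha⟩ := Submodule.Quotient.mk_surjective _ (AdicCompletion.eval (maximalIdeal A) A n x)
  refine ⟨a, ?_⟩
  rw [← Submodule.restrictScalars_mem A, ← Ideal.smul_top_eq_map,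
    AdicCompletion.pow_smul_top_eq_ker_eval (maximalIdeal A).fg_of_isNoetherianRing,
    LinearMap.mem_ker, map_sub, sub_eq_zero, ← ha]
  rfl

/-- Krull's intersection theorem for the ideal `J`. -/
theorem mem_of_forall_mem_sup {S : Type u} [CommRing S] [IsLocalRing S] [IsNoetherianRing S]
    (J : Ideal S) (x : S) (h : ∀ N : ℕ, x ∈ J ⊔ maximalIdeal S ^ N) : x ∈ J := by
  have h1 := Ideal.iInf_pow_smul_eq_bot_of_isLocalRing (M := S ⧸ J) (maximalIdeal S)
    (maximalIdeal.isMaximal S).ne_top
  have h2 : Ideal.Quotient.mk J x ∈ (⨅ i : ℕ, maximalIdeal S ^ i • ⊤ : Submodule S (S ⧸ J)) := by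
    rw [Submodule.mem_iInf]
    intro N
    obtain ⟨y, hy, z, hz, rfl⟩ := Submodule.mem_sup.mp (h N)
    rw [map_add, Ideal.Quotient.eq_zero_iff_mem.mpr hy, zero_add]
    have h3 : Ideal.Quotient.mk J z = z • (1 : S ⧸ J) := by
      rw [Algebra.smul_def, mul_one]
      rfl
    rw [h3]
    exact Submodule.smul_mem_smul hz Submodule.mem_top
  rw [h1, Submodule.mem_bot] at h2
  exact Ideal.Quotient.eq_zero_iff_mem.mp h2

/-- In a Noetherian local factorial domain, a divisor of `D ≠ 0` sufficiently close to `t` is associated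
to `t`. -/
theorem exists_associated {S : Type u} [CommRing S] [IsDomain S] [UniqueFactorizationMonoid S]
    [IsLocalRing S] [IsNoetherianRing S] (D t : S) (hD : D ≠ 0) :
    ∃ n : ℕ, ∀ a : S, a ∣ D → a - t ∈ maximalIdeal S ^ n → Associated a t := by
  classical
  by_contra hcon
  push Not at hcon
  choose a haD hat hna using hcon
  have hD' : Associates.mk D ≠ 0 := by
    rwa [Ne, Associates.mk_eq_zero]
  let _ : Fintype (Associates S)ˣ := Fintype.ofFinite _
  have : Fintype {x : Associates S // x ∣ Associates.mk D} :=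
    UniqueFactorizationMonoid.fintypeSubtypeDvd (Associates.mk D) hD'
  let F : ℕ → {x : Associates S // x ∣ Associates.mk D} := fun n =>
    ⟨Associates.mk (a n), Associates.mk_dvd_mk.mpr (haD n)⟩
  obtain ⟨d, hd⟩ := Finite.exists_infinite_fiber F
  have hd' : (F ⁻¹' {d}).Infinite := Set.infinite_coe_iff.mp hd
  obtain ⟨n₀, hn₀⟩ := hd'.nonempty
  have hmem : ∀ N : ℕ, ∃ n, N ≤ n ∧ Associated (a n) (a n₀) := by
    intro N
    obtain ⟨n, hn, hN⟩ := hd'.exists_gt N
    refine ⟨n, hN.le, ?_⟩
    rw [← Associates.mk_eq_mk_iff_associated]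
    have h1 : F n = d := hn
    have h2 : F n₀ = d := hn₀
    exact congrArg Subtype.val (h1.trans h2.symm)
  have hclose : ∀ N : ℕ, ∃ b : S, Associated b (a n₀) ∧ b - t ∈ maximalIdeal S ^ N := by
    intro N
    obtain ⟨n, hN, hn⟩ := hmem N
    exact ⟨a n, hn, Ideal.pow_le_pow_right hN (hat n)⟩
  have h1 : t ∈ Ideal.span {a n₀} := by
    refine mem_of_forall_mem_sup _ _ fun N => ?_
    obtain ⟨b, hb, hbt⟩ := hclose N
    rw [show t = b + -(b - t) by ring]
    refine Submodule.add_mem_sup ?_ (neg_mem hbt)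
    exact Ideal.mem_span_singleton.mpr hb.symm.dvd
  have h2 : a n₀ ∈ Ideal.span {t} := by
    refine mem_of_forall_mem_sup _ _ fun N => ?_
    obtain ⟨b, hb, hbt⟩ := hclose N
    obtain ⟨c, hc⟩ := hb.dvd
    rw [hc, show b * c = t * c + (b - t) * c by ring]
    exact Submodule.add_mem_sup (Ideal.mem_span_singleton.mpr ⟨c, rfl⟩)
      (Ideal.mul_mem_right _ _ hbt)
  exact hna n₀ (associated_of_dvd_dvd (Ideal.mem_span_singleton.mp h1)
    (Ideal.mem_span_singleton.mp h2))

end K146.Cpl
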