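import Groth.Agent.S0596
import Groth.Agent.Hensel.K146.CplLemmas
import Mathlib.RingTheory.EssentialFiniteness
import Mathlib.RingTheory.FinitePresentation

/-!
# Artin approximation for maps from algebras essentially of finite type
-/

set_option autoImplicit false
universe u

open IsLocalRing

namespace K146.Approx

/-- Artin approximation for `R`-algebra maps from a finite type algebra to the completion. -/
theorem exists_approx_finiteType {R : Type u} [CommRing R] [HenselianLocalRing R]
    (hG : CAlg.IsGRing R) (B : Type u) [CommRing B] [Algebra R B] [Algebra.FiniteType R B]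
    (φ : B →ₐ[R] AdicCompletion (maximalIdeal R) R) (N : ℕ) :
    ∃ g : B →ₐ[R] R, ∀ b, φ b - algebraMap R (AdicCompletion (maximalIdeal R) R) (g b) ∈
      (maximalIdeal R ^ N).map (algebraMap R (AdicCompletion (maximalIdeal R) R)) := by
  have hN : IsNoetherianRing R := hG.1
  have hfp : Algebra.FinitePresentation R B :=
    Algebra.FinitePresentation.of_finiteType.mp inferInstance
  obtain ⟨n, f, hf, hker⟩ := hfp
  obtain ⟨s, hs⟩ := hker
  let F : Fin s.card → MvPolynomial (Fin n) R := fun j => (s.equivFin.symm j).1
  have h2 : ∀ P : MvPolynomial (Fin n) R,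
      MvPolynomial.eval (fun i => φ (f (MvPolynomial.X i)))
        (MvPolynomial.map (algebraMap R (AdicCompletion (maximalIdeal R) R)) P) = φ (f P) := by
    intro P
    rw [MvPolynomial.eval_map]
    change MvPolynomial.aeval _ P = _
    rw [← AlgHom.comp_apply]
    congr 1
    ext i
    simp
  obtain ⟨x, hx, hxa⟩ := Groth.Agent.S0596.result R hG n s.card F
    (fun i => φ (f (MvPolynomial.X i))) (by
      intro j
      have h1 : (s.equivFin.symm j).1 ∈ RingHom.ker f.toRingHom := by
        rw [← hs]
        exact Ideal.subset_span (s.equivFin.symm j).2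
      rw [h2]
      change f _ = 0 at h1
      rw [h1, map_zero]) N
  let g : MvPolynomial (Fin n) R →ₐ[R] R := MvPolynomial.aeval x
  have hg : ∀ P ∈ RingHom.ker f.toRingHom, g P = 0 := by
    intro P hP
    have h1 : RingHom.ker f.toRingHom ≤ RingHom.ker g.toRingHom := by
      rw [← hs, Ideal.span_le]
      intro Q hQ
      have h2 := hx (s.equivFin ⟨Q, hQ⟩)
      simp only [F, Equiv.symm_apply_apply] at h2
      change MvPolynomial.aeval x Q = 0
      rw [MvPolynomial.aeval_eq_eval]
      exact h2
    exact h1 hP
  let e := Ideal.quotientKerAlgEquivOfSurjective hf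
  let b' : B →ₐ[R] R := (Ideal.Quotient.liftₐ (RingHom.ker f) g hg).comp e.symm.toAlgHom
  have hb' : ∀ P, b' (f P) = g P := by
    intro P
    change (Ideal.Quotient.liftₐ (RingHom.ker f) g hg) (e.symm (f P)) = g P
    have : e.symm (f P) = Ideal.Quotient.mk _ P := by
      rw [AlgEquiv.symm_apply_eq]
      rfl
    rw [this]
    rfl
  refine ⟨b', fun b => ?_⟩
  obtain ⟨P, rfl⟩ := hf b
  rw [hb']
  let J := (maximalIdeal R ^ N).map (algebraMap R (AdicCompletion (maximalIdeal R) R))
  have hcomp : (Ideal.Quotient.mkₐ R J).comp (φ.comp f) =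
      (Ideal.Quotient.mkₐ R J).comp ((Algebra.ofId R (AdicCompletion (maximalIdeal R) R)).comp g) := by
    ext i
    change Ideal.Quotient.mk J (φ (f (MvPolynomial.X i))) =
      Ideal.Quotient.mk J (algebraMap R _ (g (MvPolynomial.X i)))
    rw [Ideal.Quotient.eq]
    have : g (MvPolynomial.X i) = x i := MvPolynomial.aeval_X _ _
    rw [this]
    exact hxa i
  have h3 := DFunLike.congr_fun hcomp P
  exact Ideal.Quotient.eq.mp h3

/-- Artin approximation for `R`-algebra maps from an algebra essentially of finite type to the completion. -/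
theorem exists_approx_essFiniteType {R : Type u} [CommRing R] [HenselianLocalRing R]
    (hG : CAlg.IsGRing R) (C : Type u) [CommRing C] [Algebra R C] [Algebra.EssFiniteType R C]
    (φ : C →ₐ[R] AdicCompletion (maximalIdeal R) R) (N : ℕ) :
    ∃ g : C →ₐ[R] R, ∀ c, φ c - algebraMap R (AdicCompletion (maximalIdeal R) R) (g c) ∈
      (maximalIdeal R ^ N).map (algebraMap R (AdicCompletion (maximalIdeal R) R)) := by
  have hNoeth : IsNoetherianRing R := hG.1
  let B := Algebra.EssFiniteType.subalgebra R C
  obtain ⟨g₀, hg₀⟩ := exists_approx_finiteType hG B (φ.comp B.val) (N + 1)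
  have hle : (maximalIdeal R ^ (N + 1)).map (algebraMap R (AdicCompletion (maximalIdeal R) R)) ≤
      maximalIdeal (AdicCompletion (maximalIdeal R) R) := by
    rw [AdicCompletion.maximalIdeal_eq_map]
    exact Ideal.map_mono (Ideal.pow_le_self (Nat.succ_ne_zero N))
  have hunit : ∀ s : Algebra.EssFiniteType.submonoid R C, IsUnit (g₀ s) := by
    rintro ⟨s, hs⟩
    have h1 : IsUnit (φ (s : C)) := (show IsUnit (s : C) from hs).map φ
    have h2 := hle (hg₀ s)
    have h3 : IsUnit (algebraMap R (AdicCompletion (maximalIdeal R) R) (g₀ s)) := by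
      by_contra hn
      have h4 : algebraMap R (AdicCompletion (maximalIdeal R) R) (g₀ s) ∈
        maximalIdeal (AdicCompletion (maximalIdeal R) R) := (mem_maximalIdeal _).mpr hn
      have h5 := Ideal.add_mem _ h2 h4
      rw [sub_add_cancel] at h5
      exact (mem_maximalIdeal _).mp h5 h1
    exact (isUnit_map_iff (algebraMap R (AdicCompletion (maximalIdeal R) R)) _).mp h3
  let g : C →ₐ[R] R := IsLocalization.liftAlgHom (M := Algebra.EssFiniteType.submonoid R C)
    (f := g₀) hunit
  have hg : ∀ b : B, g (b : C) = g₀ b := fun b => IsLocalization.lift_eq _ b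
  refine ⟨g, fun c => ?_⟩
  let J := (maximalIdeal R ^ N).map (algebraMap R (AdicCompletion (maximalIdeal R) R))
  have hJ : (maximalIdeal R ^ (N + 1)).map (algebraMap R (AdicCompletion (maximalIdeal R) R)) ≤ J :=
    Ideal.map_mono (Ideal.pow_le_pow_right (Nat.le_succ N))
  have hcomp : ((Ideal.Quotient.mk J).comp φ.toRingHom) =
      (Ideal.Quotient.mk J).comp ((algebraMap R (AdicCompletion (maximalIdeal R) R)).comp
        g.toRingHom) := by
    refine IsLocalization.ringHom_ext (Algebra.EssFiniteType.submonoid R C) ?_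
    ext b
    change Ideal.Quotient.mk J (φ (b : C)) = Ideal.Quotient.mk J (algebraMap R _ (g (b : C)))
    rw [Ideal.Quotient.eq, hg]
    exact hJ (hg₀ b)
  exact Ideal.Quotient.eq.mp (RingHom.congr_fun hcomp c)

/-- An `R`-algebra map from a local `R`-algebra to `R` (local) is local. -/
theorem map_maximalIdeal_le {R : Type u} [CommRing R] [IsLocalRing R] (C : Type u) [CommRing C]
    [IsLocalRing C] [Algebra R C] (g : C →ₐ[R] R) :
    (maximalIdeal C).map g.toRingHom ≤ maximalIdeal R := by
  rw [Ideal.map_le_iff_le_comap]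
  have hs : Function.Surjective g := fun r => ⟨algebraMap R C r, g.commutes r⟩
  have : ((maximalIdeal R).comap g.toRingHom).IsMaximal :=
    Ideal.comap_isMaximal_of_surjective g.toRingHom hs
  exact (IsLocalRing.eq_maximalIdeal this).ge

end K146.Approx
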