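import Mathlib.RingTheory.Henselian
import Mathlib.RingTheory.AdjoinRoot
import Mathlib.RingTheory.IntegralClosure.Algebra.Ideal
import Mathlib.RingTheory.Nakayama
import Mathlib.RingTheory.Ideal.GoingUp
import Mathlib.RingTheory.Artinian.Module
import Mathlib.RingTheory.LocalRing.ResidueField.Basic
import Groth.Agent.Hensel.PairIdem

/-!
Elementary facts on polynomials over a ring modulo an ideal in the Jacobson radical, and finite algebras.
-/

set_option autoImplicit false
universe u v

open Polynomial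
open Groth.Agent.Hensel.PairIdem

namespace K146.Basic

/-- Coprimality with a monic polynomial can be tested modulo an ideal in the Jacobson radical. -/
theorem isCoprime_of_monic {A : Type u} [CommRing A] (I : Ideal A) (hI : I ≤ Ideal.jacobson ⊥)
    (Q R : A[X]) (hQ : Q.Monic)
    (h : IsCoprime (Q.map (Ideal.Quotient.mk I)) (R.map (Ideal.Quotient.mk I))) :
    IsCoprime Q R := by
  have hfin : Module.Finite A (AdjoinRoot Q) := hQ.finite_adjoinRoot
  obtain ⟨u, v, huv⟩ := h
  obtain ⟨u, rfl⟩ := Polynomial.map_surjective _ Ideal.Quotient.mk_surjective u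
  obtain ⟨v, rfl⟩ := Polynomial.map_surjective _ Ideal.Quotient.mk_surjective v
  set J := I.map (algebraMap A (AdjoinRoot Q)) with hJ
  have hJr : J ≤ Ideal.jacobson ⊥ := map_le_jacobson_bot I hI
  have h1 : AdjoinRoot.mk Q (u * Q + v * R - 1) ∈ J := by
    have hc : ∀ i, (u * Q + v * R - 1).coeff i ∈ I := by
      intro i
      rw [← Ideal.Quotient.eq_zero_iff_mem, ← coeff_map]
      rw [Polynomial.map_sub, Polynomial.map_add, Polynomial.map_mul, Polynomial.map_mul, huv,
        Polynomial.map_one, sub_self, coeff_zero]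
    rw [← AdjoinRoot.aeval_eq, aeval_eq_sum_range]
    refine Ideal.sum_mem _ fun i _ => ?_
    rw [Algebra.smul_def]
    exact Ideal.mul_mem_right _ _ (Ideal.mem_map_of_mem _ (hc i))
  have h2 : AdjoinRoot.mk Q v * AdjoinRoot.mk Q R = AdjoinRoot.mk Q (u * Q + v * R - 1) * 1 + 1 := by
    rw [map_sub, map_add, map_mul, map_mul, AdjoinRoot.mk_self, map_one]
    ring
  have h3 : IsUnit (AdjoinRoot.mk Q v * AdjoinRoot.mk Q R) := by
    rw [h2]
    exact Ideal.mem_jacobson_bot.mp (hJr h1) 1
  have h4 : IsUnit (AdjoinRoot.mk Q R) := isUnit_of_mul_isUnit_right h3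
  obtain ⟨s, hs⟩ := isUnit_iff_exists_inv'.mp h4
  obtain ⟨S, rfl⟩ := AdjoinRoot.mk_surjective s
  rw [← map_mul, ← map_one (AdjoinRoot.mk Q), AdjoinRoot.mk_eq_mk] at hs
  obtain ⟨c, hc⟩ := hs
  exact ⟨-c, S, by linear_combination hc⟩

end K146.Basic
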