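import Groth.Agent.Hensel.K146.CoupleProper
import Mathlib.AlgebraicGeometry.AffineScheme

/-!
# Couples and global sections
-/

set_option autoImplicit false
universe u

open CategoryTheory CategoryTheory.Limits AlgebraicGeometry Topology
open Groth.Agent.Pi1A.ProperClopen

namespace K146.Couple

theorem isProper_toSpecΓ {A : Type u} [CommRing A] {X : Scheme.{u}}
    (f : X ⟶ Spec (CommRingCat.of A)) [IsProper f] : IsProper X.toSpecΓ := by
  have h : IsProper (X.toSpecΓ ≫ Spec.map f.appTop) := by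
    rw [← Scheme.toSpecΓ_naturality]
    infer_instance
  exact IsProper.of_comp X.toSpecΓ (Spec.map f.appTop)

/-- The zero locus of the kernel of restriction to `X₀` is contained in every closed set containing the image. -/
theorem range_subset_zeroLocus_ker {X X₀ : Scheme.{u}} (p : X₀ ⟶ X) :
    Set.range p ⊆ X.toSpecΓ ⁻¹'
      (PrimeSpectrum.zeroLocus ((RingHom.ker p.appTop.hom : Ideal Γ(X, ⊤)) : Set Γ(X, ⊤))) := by
  rw [Scheme.toSpecΓ_preimage_zeroLocus]
  rintro _ ⟨y, rfl⟩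
  rw [Scheme.mem_zeroLocus_iff]
  intro s hs hy
  have h1 : y ∈ p ⁻¹ᵁ (X.basicOpen s) := hy
  rw [Scheme.preimage_basicOpen_top] at h1
  have h2 : p.appTop s = 0 := hs
  rw [h2, Scheme.basicOpen_zero] at h1
  exact h1

theorem appTop_eq_zero {A : Type u} [CommRing A] (I : Ideal A) {X₀ : Scheme.{u}}
    (q : X₀ ⟶ Spec (CommRingCat.of (A ⧸ I))) (a : A) (ha : a ∈ I) :
    (q ≫ Spec.map (CommRingCat.ofHom (Ideal.Quotient.mk I))).appTop
      ((Scheme.ΓSpecIso (CommRingCat.of A)).inv a) = 0 := by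
  have h1 : (Spec.map (CommRingCat.ofHom (Ideal.Quotient.mk I))).appTop
      ((Scheme.ΓSpecIso (CommRingCat.of A)).inv a) = 0 := by
    have h2 := Scheme.ΓSpecIso_inv_naturality (CommRingCat.ofHom (Ideal.Quotient.mk I))
    have h3 := congrArg (fun (φ : CommRingCat.of A ⟶ _) => φ.hom a) h2
    have h4 : (Scheme.ΓSpecIso (CommRingCat.of (A ⧸ I))).inv (Ideal.Quotient.mk I a) =
      (Spec.map (CommRingCat.ofHom (Ideal.Quotient.mk I))).appTop
      ((Scheme.ΓSpecIso (CommRingCat.of A)).inv a) := h3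
    rw [← h4, Ideal.Quotient.eq_zero_iff_mem.mpr ha, map_zero]
  rw [Scheme.Hom.comp_appTop, CommRingCat.comp_apply, h1, map_zero]

theorem preimage_zeroLocus_ker {A : Type u} [CommRing A] (I : Ideal A) {X X₀ : Scheme.{u}}
    (f : X ⟶ Spec (CommRingCat.of A)) (p : X₀ ⟶ X) (q : X₀ ⟶ Spec (CommRingCat.of (A ⧸ I)))
    (hpq : p ≫ f = q ≫ Spec.map (CommRingCat.ofHom (Ideal.Quotient.mk I)))
    (hp : Set.range p = f ⁻¹' (PrimeSpectrum.zeroLocus (I : Set A))) :
    X.toSpecΓ ⁻¹'
      (PrimeSpectrum.zeroLocus ((RingHom.ker p.appTop.hom : Ideal Γ(X, ⊤)) : Set Γ(X, ⊤))) =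
      Set.range p := by
  refine Set.Subset.antisymm ?_ (range_subset_zeroLocus_ker p)
  rw [Scheme.toSpecΓ_preimage_zeroLocus, hp]
  intro x hx
  rw [Scheme.mem_zeroLocus_iff] at hx
  intro a ha
  by_contra hn
  have h1 : f x ∈ PrimeSpectrum.basicOpen a := hn
  have h2 : f.appTop ((Scheme.ΓSpecIso (CommRingCat.of A)).inv a) ∈ RingHom.ker p.appTop.hom := by
    have := appTop_eq_zero I q a ha
    rw [← hpq, Scheme.Hom.comp_appTop, CommRingCat.comp_apply] at this
    exact this
  refine hx _ h2 ?_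
  rw [← Scheme.preimage_basicOpen_top]
  change f x ∈ (Spec (CommRingCat.of A)).basicOpen _
  rw [basicOpen_eq_of_affine]
  exact h1

theorem couple_of_henselian_ker {A : Type u} [CommRing A] (I : Ideal A) {X : Scheme.{u}}
    (f : X ⟶ Spec (CommRingCat.of A)) [IsProper f]
    (h : HenselianRing (Γ(X, ⊤) : Type u)
      (RingHom.ker (pullback.fst f
        (Spec.map (CommRingCat.ofHom (Ideal.Quotient.mk I)))).appTop.hom))
    (Y : Scheme.{u}) (g : Y ⟶ X) (hg : IsFinite g) :
    HTop (g ⁻¹' (Set.range (pullback.fst f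
      (Spec.map (CommRingCat.ofHom (Ideal.Quotient.mk I)))))) := by
  have hproper : IsProper (X.toSpecΓ : X ⟶ Spec (CommRingCat.of Γ(X, ⊤))) := isProper_toSpecΓ f
  have h1 := couple_of_isProper (Γ(X, ⊤) : Type u) (RingHom.ker (pullback.fst f
        (Spec.map (CommRingCat.ofHom (Ideal.Quotient.mk I)))).appTop.hom)
        (X.toSpecΓ : X ⟶ Spec (CommRingCat.of Γ(X, ⊤))) Y g hg
  have h2 := preimage_zeroLocus_ker I f (pullback.fst f
        (Spec.map (CommRingCat.ofHom (Ideal.Quotient.mk I)))) (pullback.snd f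
        (Spec.map (CommRingCat.ofHom (Ideal.Quotient.mk I)))) pullback.condition
        (range_fst_quotient A I f)
  rw [← h2]
  exact h1

end K146.Couple
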