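import Groth.Agent.Hensel.K146.CoupleTop
import Groth.Agent.Pi1A.ProperClopen

/-!
# Schemes proper over a henselian pair are henselian couples
-/

set_option autoImplicit false
universe u

open CategoryTheory CategoryTheory.Limits AlgebraicGeometry Topology
open Groth.Agent.Pi1A.ProperClopen

namespace K146.Couple

theorem hTop_of_isProper (A : Type u) [CommRing A] (I : Ideal A) [hA : HenselianRing A I]
    {X : Scheme.{u}} (f : X ⟶ Spec (CommRingCat.of A)) [IsProper f] :
    HTop (f ⁻¹' (PrimeSpectrum.zeroLocus (I : Set A))) :=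
  ⟨liftsClopen_of_isProper A I f, fun U hU h => eq_empty_of_isClosed A I hA.jac f U hU.isClosed h⟩

/-- `(X, f⁻¹ V(I))` is a henselian couple for `f` proper over a henselian pair. -/
theorem couple_of_isProper (A : Type u) [CommRing A] (I : Ideal A) [hA : HenselianRing A I]
    {X : Scheme.{u}} (f : X ⟶ Spec (CommRingCat.of A)) [IsProper f]
    (Y : Scheme.{u}) (g : Y ⟶ X) (hg : IsFinite g) :
    HTop (g ⁻¹' (f ⁻¹' (PrimeSpectrum.zeroLocus (I : Set A)))) := by
  rw [← Set.preimage_comp]
  exact hTop_of_isProper A I (g ≫ f)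

theorem couple_quotient (A : Type u) [CommRing A] (I : Ideal A) [hA : HenselianRing A I]
    {X : Scheme.{u}} (f : X ⟶ Spec (CommRingCat.of A)) [IsProper f]
    (Y : Scheme.{u}) (g : Y ⟶ X) (hg : IsFinite g) :
    HTop (g ⁻¹' (Set.range (pullback.fst f (Spec.map (CommRingCat.ofHom (Ideal.Quotient.mk I)))))) := by
  rw [range_fst_quotient]
  exact couple_of_isProper A I f Y g hg

end K146.Couple
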