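import Groth.Agent.Hensel.K146.CoupleTop
import Groth.Agent.Sga2.IdemClopen
import Groth.Agent.Pi1C.PuncturedSections2
import Groth.Agent.Flat2B.GenPt
import Groth.Agent.S17968
import Mathlib.RingTheory.Henselian

/-!
# Global sections of a henselian couple form a henselian pair
-/

set_option autoImplicit false
universe u

open CategoryTheory CategoryTheory.Limits AlgebraicGeometry Topology TopologicalSpace
open Groth.Agent.Sga2.IdemClopen

namespace K146.Couple

lemma isUnit_of_basicOpen_eq_top {Y : Scheme.{u}} (a : Γ(Y, ⊤)) (ha : Y.basicOpen a = ⊤) :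
    IsUnit a := by
  apply Y.toRingedSpace.isUnit_of_isUnit_germ ⊤ a
  intro x hx
  rw [← Scheme.mem_basicOpen, ha]
  exact hx

lemma isClopen_basicOpen {Z : Scheme.{u}} {e : Γ(Z, ⊤)} (he : e * e = e) :
    IsClopen (Z.basicOpen e : Set Z) := by
  refine ⟨?_, (Z.basicOpen e).isOpen⟩
  rw [← isOpen_compl_iff]
  have h1 := congrArg (fun U : Z.Opens => (U : Set Z)) (basicOpen_sup e)
  have h2 := congrArg (fun U : Z.Opens => (U : Set Z)) (basicOpen_inf he)
  simp only [Opens.coe_sup, Opens.coe_inf, Opens.coe_top, Opens.coe_bot] at h1 h2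
  have : (Z.basicOpen e : Set Z)ᶜ = (Z.basicOpen (1 - e) : Set Z) := by
    ext x
    constructor
    · intro hx
      have : x ∈ (Z.basicOpen e : Set Z) ∪ (Z.basicOpen (1 - e) : Set Z) := by
        rw [h1]; trivial
      exact this.resolve_left hx
    · intro hx hx'
      have : x ∈ (Z.basicOpen e : Set Z) ∩ (Z.basicOpen (1 - e) : Set Z) := ⟨hx', hx⟩
      rw [h2] at this
      exact this
  rw [this]
  exact (Z.basicOpen (1 - e)).isOpen

/-- Idempotent sections with the same non-vanishing locus agree. -/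
lemma eq_of_basicOpen_eq {Z : Scheme.{u}} {e e' : Γ(Z, ⊤)} (he : e * e = e) (he' : e' * e' = e')
    (h : (Z.basicOpen e : Set Z) = (Z.basicOpen e' : Set Z)) : e = e' := by
  have hV : Z.basicOpen e = Z.basicOpen e' := SetLike.coe_injective h
  have key : ∀ {f : Γ(Z, ⊤)}, f * f = f → (Z.basicOpen (1 - f) : Set Z) =
      (Z.basicOpen f : Set Z)ᶜ := by
    intro f hf
    have h1 := congrArg (fun U : Z.Opens => (U : Set Z)) (basicOpen_sup f)
    have h2 := congrArg (fun U : Z.Opens => (U : Set Z)) (basicOpen_inf hf)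
    simp only [Opens.coe_sup, Opens.coe_inf, Opens.coe_top, Opens.coe_bot] at h1 h2
    ext x
    constructor
    · intro hx hx'
      have : x ∈ (Z.basicOpen f : Set Z) ∩ (Z.basicOpen (1 - f) : Set Z) := ⟨hx', hx⟩
      rw [h2] at this
      exact this
    · intro hx
      have : x ∈ (Z.basicOpen f : Set Z) ∪ (Z.basicOpen (1 - f) : Set Z) := by
        rw [h1]; trivial
      exact this.resolve_left hx
  have hW : Z.basicOpen (1 - e) = Z.basicOpen (1 - e') := by
    apply SetLike.coe_injective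
    rw [key he, key he', h]
  have h1 := isInd_of_idem he
  have h2 := isInd_of_idem he'
  rw [← hV, ← hW] at h2
  exact h1.unique (basicOpen_sup e) h2

/-- A clopen subset is the non-vanishing locus of an idempotent section. -/
lemma exists_idem_of_isClopen {Z : Scheme.{u}} {U : Set Z} (hU : IsClopen U) :
    ∃ e : Γ(Z, ⊤), e * e = e ∧ (Z.basicOpen e : Set Z) = U := by
  let V : Z.Opens := ⟨U, hU.isOpen⟩
  let W : Z.Opens := ⟨Uᶜ, hU.compl.isOpen⟩
  have h1 : V ⊔ W = ⊤ := by
    apply SetLike.coe_injective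
    change U ∪ Uᶜ = Set.univ
    exact Set.union_compl_self U
  have h2 : V ⊓ W = ⊥ := by
    apply SetLike.coe_injective
    change U ∩ Uᶜ = ∅
    exact Set.inter_compl_self U
  obtain ⟨e, he⟩ := exists_isInd h1 h2
  exact ⟨e, he.idem h1, by rw [he.basicOpen_eq h1]; rfl⟩

theorem ker_le_jacobson {X X₀ : Scheme.{u}} (i : X₀ ⟶ X)
    (hX : ∀ (Y : Scheme.{u}) (g : Y ⟶ X), IsFinite g → HTop (g ⁻¹' (Set.range i))) :
    (RingHom.ker i.appTop.hom : Ideal Γ(X, ⊤)) ≤ Ideal.jacobson ⊥ := by
  have key : ∀ f : Γ(X, ⊤), i.appTop.hom f = 0 → IsUnit (f + 1) := by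
    intro f hf
    apply isUnit_of_basicOpen_eq_top
    have hcl : IsClosedImmersion (Spec.map (CommRingCat.ofHom
        (Ideal.Quotient.mk (Ideal.span {f + 1} : Ideal Γ(X, ⊤))))) :=
      IsClosedImmersion.spec_of_surjective _ Ideal.Quotient.mk_surjective
    let h : X ⟶ Spec (CommRingCat.of Γ(X, ⊤)) := X.toSpecΓ
    let g := pullback.fst h (Spec.map (CommRingCat.ofHom
        (Ideal.Quotient.mk (Ideal.span {f + 1} : Ideal Γ(X, ⊤)))))
    have hrange : Set.range g = (X.basicOpen (f + 1) : Set X)ᶜ := by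
      have h1 : Set.range g = h ⁻¹' (PrimeSpectrum.zeroLocus {f + 1}) := by
        rw [Scheme.Pullback.range_fst]
        congr 1
        change Set.range (PrimeSpectrum.comap (Ideal.Quotient.mk
          (Ideal.span {f + 1} : Ideal Γ(X, ⊤)))) = _
        rw [_root_.range_comap_of_surjective _ _ Ideal.Quotient.mk_surjective, Ideal.mk_ker,
          PrimeSpectrum.zeroLocus_span]
      rw [h1]
      change X.toSpecΓ ⁻¹' _ = _
      rw [Scheme.toSpecΓ_preimage_zeroLocus]
      ext x
      rw [Scheme.mem_zeroLocus_iff]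
      simp
    have h1 := hX _ g inferInstance
    have h2 : g ⁻¹' (Set.range i) = ∅ := by
      ext y
      simp only [Set.mem_preimage, Set.mem_range, Set.mem_empty_iff_false, iff_false, not_exists]
      intro z hz
      have h3 : g y ∈ (X.basicOpen (f + 1) : Set X)ᶜ := by
        rw [← hrange]
        exact ⟨y, rfl⟩
      apply h3
      rw [← hz]
      change z ∈ i ⁻¹ᵁ (X.basicOpen (f + 1))
      rw [Scheme.preimage_basicOpen_top]
      have h4 : i.appTop (f + 1) = 1 := by
        rw [map_add, map_one]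
        change i.appTop.hom f + 1 = 1
        rw [hf, zero_add]
      rw [h4, Scheme.basicOpen_one]
      trivial
    rw [h2] at h1
    have h3 := h1.2 Set.univ isClopen_univ (Set.inter_empty _)
    apply SetLike.coe_injective
    rw [← compl_compl (X.basicOpen (f + 1) : Set X), ← hrange, ← Set.image_univ, h3,
      Set.image_empty, Set.compl_empty]
    rfl
  intro f hf
  rw [Ideal.mem_jacobson_bot]
  intro y
  apply key
  rw [map_mul]
  have : i.appTop.hom f = 0 := hf
  rw [this, zero_mul]

/-- In a pushout square with flat `B → B'`, the kernel of `B' → D ⊗ B'` is generated by the kernel of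
`B → D`. -/
theorem mem_map_ker_of_isPushout {B D B' P : CommRingCat.{u}} {f : B ⟶ D} {g : B ⟶ B'}
    {inl : D ⟶ P} {inr : B' ⟶ P} (h : IsPushout f g inl inr) (hg : g.hom.Flat) (z : B')
    (hz : inr z = 0) : z ∈ (RingHom.ker f.hom).map g.hom := by
  let _ : Algebra B D := f.hom.toAlgebra
  let _ : Algebra B B' := g.hom.toAlgebra
  have : Module.Flat B B' := hg
  have h1 := CommRingCat.isPushout_tensorProduct B D B'
  have h2 : IsPushout f g (CommRingCat.ofHom (Algebra.TensorProduct.includeLeftRingHom :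
      (D : Type u) →+* TensorProduct B D B')) (CommRingCat.ofHom
      (Algebra.TensorProduct.includeRight.toRingHom : (B' : Type u) →+* TensorProduct B D B')) := h1
  let e := h.isoIsPushout _ _ h2
  have h3 : inr ≫ e.hom = CommRingCat.ofHom
      (Algebra.TensorProduct.includeRight.toRingHom : (B' : Type u) →+* TensorProduct B D B') :=
    h.inr_isoIsPushout_hom _ _ h2
  have h4 : (1 : D) ⊗ₜ[B] z = (0 : TensorProduct B D B') := by
    have h5 := congrArg (fun φ => φ.hom z) h3
    have h6 : e.hom (inr z) = (1 : D) ⊗ₜ[B] z := h5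
    rw [← h6, hz, map_zero]
  exact Groth.Agent.Flat2B.GenPt.mem_map_of_tmul_eq_zero (A := B) (D := B') (K := D) z h4

open Groth.Agent.Pi1C.PuncturedSections in
theorem exists_idem {X X₀ : Scheme.{u}} (i : X₀ ⟶ X) [IsClosedImmersion i] [CompactSpace X]
    [QuasiSeparatedSpace X]
    (hX : ∀ (Y : Scheme.{u}) (g : Y ⟶ X), IsFinite g →
      ∀ V : Set ↥(pullback g i), IsClopen V →
        ∃! U : Set ↥Y, IsClopen U ∧ (pullback.fst g i).base ⁻¹' U = V)
    {B' : CommRingCat.{u}} (α : Γ(X, ⊤) ⟶ B') [Flat (Spec.map α)] [IsFinite (Spec.map α)]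
    (z : B') (hz : z * z - z ∈ (RingHom.ker i.appTop.hom : Ideal Γ(X, ⊤)).map α.hom) :
    ∃ e : B', e * e = e ∧ e - z ∈ (RingHom.ker i.appTop.hom : Ideal Γ(X, ⊤)).map α.hom := by
  let h := X.toSpecΓ
  let g := pullback.fst h (Spec.map α)
  let q := pullback.snd h (Spec.map α)
  let p1 := pullback.fst g i
  let p2 := pullback.snd g i
  have hX₀ : CompactSpace X₀ := i.isClosedEmbedding.compactSpace
  have hX₀' : QuasiSeparatedSpace X₀ := by
    exact quasiSeparatedSpace_of_quasiSeparated i
  have hid : (Scheme.ΓSpecIso Γ(X, ⊤)).inv ≫ h.appTop = 𝟙 _ := by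
    rw [Scheme.toSpecΓ_appTop, Iso.inv_hom_id]
  have P1 := isPushout_sections α h g q (IsPullback.of_hasPullback _ _)
  have P2 := isPushout_sections α (i ≫ h) p2 (p1 ≫ q)
    ((IsPullback.of_hasPullback g i).flip.paste_vert (IsPullback.of_hasPullback h (Spec.map α)))
  rw [hid] at P1
  have hi1 : (Scheme.ΓSpecIso Γ(X, ⊤)).inv ≫ (i ≫ h).appTop = i.appTop := by
    rw [Scheme.Hom.comp_appTop, ← Category.assoc, hid, Category.id_comp]
  rw [hi1] at P2
  set β : B' ⟶ Γ(pullback h (Spec.map α), ⊤) := (Scheme.ΓSpecIso B').inv ≫ q.appTop with hβ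
  have hβi : IsIso β := P1.isIso_inr_of_isIso
  have hi2 : (Scheme.ΓSpecIso B').inv ≫ (p1 ≫ q).appTop = β ≫ p1.appTop := by
    rw [Scheme.Hom.comp_appTop, ← Category.assoc]
  rw [hi2] at P2
  let J : Ideal Γ(X, ⊤) := RingHom.ker i.appTop.hom
  have hJ : ∀ x ∈ J.map α.hom, (β ≫ p1.appTop).hom x = 0 := by
    intro x hx
    have h1 : J.map α.hom ≤ RingHom.ker (β ≫ p1.appTop).hom := by
      rw [Ideal.map_le_iff_le_comap]
      intro b hb
      rw [Ideal.mem_comap, RingHom.mem_ker]
      have h2 := congrArg (fun φ => φ.hom b) P2.w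
      have h3 : p2.appTop.hom (i.appTop.hom b) = (β ≫ p1.appTop).hom (α.hom b) := h2
      rw [← h3, (show i.appTop.hom b = 0 from hb), map_zero]
    exact h1 hx
  have hflat : α.hom.Flat := by
    have : Flat (Spec.map α) := inferInstance
    rwa [AlgebraicGeometry.HasRingHomProperty.Spec_iff (P := @Flat)] at this
  let w : Γ(pullback g i, ⊤) := (β ≫ p1.appTop).hom z
  have hw : w * w = w := by
    have := hJ _ hz
    rw [map_sub, map_mul, sub_eq_zero] at this
    exact this
  obtain ⟨U, ⟨hU, hUV⟩, -⟩ := hX _ g inferInstance _ (isClopen_basicOpen hw)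
  obtain ⟨eY, heY, heU⟩ := exists_idem_of_isClopen hU
  refine ⟨(inv β).hom eY, by rw [← map_mul, heY], ?_⟩
  have hfin : (β ≫ p1.appTop).hom ((inv β).hom eY) = w := by
    have h1 : (β ≫ p1.appTop).hom ((inv β).hom eY) = p1.appTop.hom eY := by
      have h2 := congrArg (fun φ => φ.hom eY) (IsIso.inv_hom_id_assoc β p1.appTop)
      exact h2
    rw [h1]
    refine eq_of_basicOpen_eq (by rw [← map_mul, heY]) hw ?_
    rw [← hUV, ← heU]
    have h3 : p1 ⁻¹ᵁ (Scheme.basicOpen _ eY) = Scheme.basicOpen _ (p1.appTop eY) :=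
      Scheme.preimage_basicOpen_top _ _
    exact congrArg (fun U : (pullback g i).Opens => (U : Set ↥(pullback g i))) h3.symm
  apply mem_map_ker_of_isPushout P2 hflat
  change (β ≫ p1.appTop).hom _ = 0
  rw [map_sub, hfin, sub_self]

end K146.Couple
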