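import Groth.Agent.Hensel.K146.CoupleProper
import Groth.Agent.S0521

/-!
# Henselian pairs and henselian couples of affine schemes
-/

set_option autoImplicit false
universe u

open CategoryTheory CategoryTheory.Limits AlgebraicGeometry Topology

namespace K146.Couple

theorem hTop_zeroLocus_iff {B : Type u} [CommRing B] (J : Ideal B) :
    HTop (PrimeSpectrum.zeroLocus (J : Set B)) ↔
      Set.BijOn (Ideal.Quotient.mk J) {e : B | IsIdempotentElem e} {e | IsIdempotentElem e} := by
  have hemb : IsClosedEmbedding (PrimeSpectrum.comap (Ideal.Quotient.mk J)) :=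
    PrimeSpectrum.isClosedEmbedding_comap_of_surjective _ _ Ideal.Quotient.mk_surjective
  have hrange : Set.range (PrimeSpectrum.comap (Ideal.Quotient.mk J)) =
      PrimeSpectrum.zeroLocus (J : Set B) := by
    rw [_root_.range_comap_of_surjective _ _ Ideal.Quotient.mk_surjective, Ideal.mk_ker]
  rw [← hrange, ← hTop_range_iff hemb]
  have hpre : ∀ e : B, PrimeSpectrum.comap (Ideal.Quotient.mk J) ⁻¹'
      (PrimeSpectrum.basicOpen e : Set (PrimeSpectrum B)) =
      (PrimeSpectrum.basicOpen (Ideal.Quotient.mk J e) : Set (PrimeSpectrum (B ⧸ J))) :=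
    fun e => rfl
  constructor
  · intro h
    refine ⟨fun e he => he.map _, ?_, ?_⟩
    · intro e he f hf hef
      obtain ⟨U, -, hU⟩ := h (PrimeSpectrum.basicOpen (Ideal.Quotient.mk J e))
        (PrimeSpectrum.isClopen_iff.mpr ⟨_, IsIdempotentElem.map he _, rfl⟩)
      have h1 := hU _ ⟨PrimeSpectrum.isClopen_iff.mpr ⟨e, he, rfl⟩, hpre e⟩
      have h2 := hU _ ⟨PrimeSpectrum.isClopen_iff.mpr ⟨f, hf, rfl⟩, (hpre f).trans (by rw [hef])⟩
      exact PrimeSpectrum.basicOpen_injOn_isIdempotentElem he hf (SetLike.coe_injective (h1.trans h2.symm))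
    · intro e₀ he₀
      obtain ⟨U, ⟨hU, hUe⟩, -⟩ := h (PrimeSpectrum.basicOpen e₀)
        (PrimeSpectrum.isClopen_iff.mpr ⟨_, he₀, rfl⟩)
      obtain ⟨e, he, rfl⟩ := PrimeSpectrum.isClopen_iff.mp hU
      refine ⟨e, he, ?_⟩
      exact PrimeSpectrum.basicOpen_injOn_isIdempotentElem (IsIdempotentElem.map he _) he₀
        (SetLike.coe_injective ((hpre e).symm.trans hUe))
  · rintro ⟨-, hinj, hsurj⟩ V hV
    obtain ⟨e₀, he₀, rfl⟩ := PrimeSpectrum.isClopen_iff.mp hV
    obtain ⟨e, he, rfl⟩ := hsurj he₀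
    refine ⟨_, ⟨PrimeSpectrum.isClopen_iff.mpr ⟨e, he, rfl⟩, hpre e⟩, ?_⟩
    rintro U ⟨hU, hUe⟩
    obtain ⟨f, hf, rfl⟩ := PrimeSpectrum.isClopen_iff.mp hU
    have : f = e := hinj hf he (PrimeSpectrum.basicOpen_injOn_isIdempotentElem
      (IsIdempotentElem.map hf _) (IsIdempotentElem.map he _)
      (SetLike.coe_injective ((hpre f).symm.trans hUe)))
    rw [this]

theorem henselianRing_of_hTop {A : Type u} [CommRing A] {I : Ideal A}
    (h : ∀ (B : Type u) [CommRing B] [Algebra A B], Module.Finite A B →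
      HTop (PrimeSpectrum.zeroLocus ((I.map (algebraMap A B) : Ideal B) : Set B))) :
    HenselianRing A I :=
  (Groth.Agent.S0521.result A I).mpr fun B _ _ hB => (hTop_zeroLocus_iff _).mp (h B hB)

theorem preimage_comap_zeroLocus_ideal {A B : Type u} [CommRing A] [CommRing B] (φ : A →+* B)
    (I : Ideal A) : PrimeSpectrum.comap φ ⁻¹' (PrimeSpectrum.zeroLocus (I : Set A)) =
      PrimeSpectrum.zeroLocus ((I.map φ : Ideal B) : Set B) := by
  rw [PrimeSpectrum.preimage_comap_zeroLocus]
  ext x
  simp only [PrimeSpectrum.mem_zeroLocus]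
  rw [SetLike.coe_subset_coe, Ideal.map_le_iff_le_comap, Set.image_subset_iff]
  rfl

theorem range_spec_quotient (A : Type u) [CommRing A] (I : Ideal A) :
    Set.range (Spec.map (CommRingCat.ofHom (Ideal.Quotient.mk I))) =
      (PrimeSpectrum.zeroLocus (I : Set A)) := by
  change Set.range (PrimeSpectrum.comap (Ideal.Quotient.mk I)) = _
  rw [_root_.range_comap_of_surjective _ _ Ideal.Quotient.mk_surjective, Ideal.mk_ker]

theorem henselianRing_iff (A : Type u) [CommRing A] (I : Ideal A) :
    HenselianRing A I ↔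
    ∀ (Y : Scheme.{u}) (g : Y ⟶ Spec (CommRingCat.of A)), IsFinite g →
      HTop (g ⁻¹' (Set.range (Spec.map (CommRingCat.ofHom (Ideal.Quotient.mk I))))) := by
  rw [range_spec_quotient]
  constructor
  · intro h Y g hg
    exact hTop_of_isProper A I g
  · intro h
    refine henselianRing_of_hTop fun B _ _ hB => ?_
    have hfin : IsFinite (Spec.map (CommRingCat.ofHom (algebraMap A B))) := by
      rw [IsFinite.SpecMap_iff]
      exact RingHom.finite_algebraMap.mpr hB
    have h1 := h _ (Spec.map (CommRingCat.ofHom (algebraMap A B))) hfin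
    have h2 : (Spec.map (CommRingCat.ofHom (algebraMap A B))) ⁻¹'
        (PrimeSpectrum.zeroLocus (I : Set A)) =
        PrimeSpectrum.zeroLocus ((I.map (algebraMap A B) : Ideal B) : Set B) :=
      preimage_comap_zeroLocus_ideal (algebraMap A B) I
    rw [h2] at h1
    exact h1

end K146.Couple
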