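import Mathlib.AlgebraicGeometry.Morphisms.Finite
import Mathlib.AlgebraicGeometry.Morphisms.ClosedImmersion
import Mathlib.AlgebraicGeometry.Pullbacks
import Mathlib.AlgebraicGeometry.PullbackCarrier
import Mathlib.AlgebraicGeometry.Limits

/-!
# Henselian couples, topologically

* `HTop Z`: a decomposition of the closed subset `Z` of `T` is induced by a clopen subset of `T`, and nonempty clopen
  subsets of `T` meet `Z`.
* `hTop_range_iff`: for a closed embedding `j`, unique lifting of clopens along `j` is `HTop (range j)`.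
* `couple_iff`: a closed immersion `i : X₀ ⟶ X` is a henselian couple iff `HTop (g ⁻¹' range i)` for all finite
  `g : Y ⟶ X`.
-/

set_option autoImplicit false
universe u

open CategoryTheory CategoryTheory.Limits AlgebraicGeometry Topology

namespace K146.Couple

/-- Clopen subsets of the subspace `Z` lift uniquely to clopen subsets of the whole space. -/
def HTop {T : Type*} [TopologicalSpace T] (Z : Set T) : Prop :=
  (∀ W₁ W₂ : Set T, IsClosed W₁ → IsClosed W₂ → Disjoint W₁ W₂ → W₁ ∪ W₂ = Z →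
    ∃ U : Set T, IsClopen U ∧ U ∩ Z = W₁) ∧
  ∀ U : Set T, IsClopen U → U ∩ Z = ∅ → U = ∅

theorem hTop_range_iff {T T₀ : Type*} [TopologicalSpace T] [TopologicalSpace T₀] {j : T₀ → T}
    (hj : IsClosedEmbedding j) :
    (∀ V : Set T₀, IsClopen V → ∃! U : Set T, IsClopen U ∧ j ⁻¹' U = V) ↔
      HTop (Set.range j) := by
  constructor
  · intro h
    constructor
    · intro W₁ W₂ h₁ h₂ hd hu
      have hV : IsClopen (j ⁻¹' W₁) := by
        refine ⟨h₁.preimage hj.continuous, ?_⟩
        rw [← isClosed_compl_iff]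
        have : (j ⁻¹' W₁)ᶜ = j ⁻¹' W₂ := by
          ext x
          have hx : j x ∈ W₁ ∪ W₂ := by rw [hu]; exact ⟨x, rfl⟩
          simp only [Set.mem_compl_iff, Set.mem_preimage]
          constructor
          · intro h; exact hx.resolve_left h
          · intro h h'; exact Set.disjoint_left.mp hd h' h
        rw [this]
        exact h₂.preimage hj.continuous
      obtain ⟨U, ⟨hU, hUV⟩, -⟩ := h _ hV
      refine ⟨U, hU, ?_⟩
      have h1 : W₁ ⊆ Set.range j := by rw [← hu]; exact Set.subset_union_left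
      rw [← Set.image_preimage_eq_inter_range, hUV, Set.image_preimage_eq_inter_range]
      exact Set.inter_eq_left.mpr h1
    · intro U hU hUe
      obtain ⟨U', -, hU'⟩ := h ∅ isClopen_empty
      have h1 : j ⁻¹' U = ∅ := by
        ext x
        simp only [Set.mem_preimage, Set.mem_empty_iff_false, iff_false]
        intro hx
        have : j x ∈ U ∩ Set.range j := ⟨hx, x, rfl⟩
        rw [hUe] at this
        exact this
      rw [hU' U ⟨hU, h1⟩, hU' ∅ ⟨isClopen_empty, Set.preimage_empty⟩]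
  · rintro ⟨h1, h2⟩ V hV
    obtain ⟨U, hU, hUV⟩ := h1 (j '' V) (j '' Vᶜ)
      (hj.isClosedMap _ hV.isClosed) (hj.isClosedMap _ hV.compl.isClosed)
      ((Set.disjoint_image_iff hj.injective).mpr disjoint_compl_right)
      (by rw [← Set.image_union, Set.union_compl_self, Set.image_univ])
    have hUV' : j ⁻¹' U = V := by
      rw [← hj.injective.preimage_image V, ← hUV, Set.preimage_inter,
        Set.preimage_range, Set.inter_univ]
    refine ⟨U, ⟨hU, hUV'⟩, ?_⟩
    rintro U' ⟨hU', hUV''⟩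
    have key : ∀ A B : Set T, IsClopen A → IsClopen B → j ⁻¹' A = j ⁻¹' B → A ⊆ B := by
      intro A B hA hB hAB
      have := h2 (A \ B) (hA.diff hB) (by
        ext x
        simp only [Set.mem_inter_iff, Set.mem_sdiff, Set.mem_range, Set.mem_empty_iff_false,
          iff_false, not_and, not_exists]
        rintro ⟨hxA, hxB⟩ y rfl
        have : y ∈ j ⁻¹' A := hxA
        rw [hAB] at this
        exact hxB this)
      exact Set.sdiff_eq_empty.mp this
    exact Set.Subset.antisymm (key _ _ hU' hU (hUV''.trans hUV'.symm))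
      (key _ _ hU hU' (hUV'.trans hUV''.symm))

/-- `HTop` is local for partitions into open pieces. -/
theorem hTop_of_pieces {T : Type*} [TopologicalSpace T] {ι : Type*} {P : ι → Type*}
    [∀ i, TopologicalSpace (P i)] (φ : ∀ i, P i → T) (hφ : ∀ i, IsOpenEmbedding (φ i))
    (hd : ∀ i k, i ≠ k → Disjoint (Set.range (φ i)) (Set.range (φ k)))
    (hc : ∀ x, ∃ i, x ∈ Set.range (φ i)) {Z : Set T} (h : ∀ i, HTop (φ i ⁻¹' Z)) : HTop Z := by
  have hopen : ∀ U : Set T, (∀ i, IsOpen (φ i ⁻¹' U)) → IsOpen U := by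
    intro U hU
    rw [isOpen_iff_forall_mem_open]
    intro x hx
    obtain ⟨i, y, rfl⟩ := hc x
    exact ⟨φ i '' (φ i ⁻¹' U), Set.image_preimage_subset _ _, (hφ i).isOpenMap _ (hU i), y, hx, rfl⟩
  have hcl : ∀ U : Set T, (∀ i, IsClopen (φ i ⁻¹' U)) → IsClopen U := by
    intro U hU
    refine ⟨?_, hopen U fun i => (hU i).isOpen⟩
    rw [← isOpen_compl_iff]
    exact hopen _ fun i => (hU i).compl.isOpen
  constructor
  · intro W₁ W₂ h₁ h₂ hdj hu
    have hU : ∀ i, ∃ U : Set (P i), IsClopen U ∧ U ∩ φ i ⁻¹' Z = φ i ⁻¹' W₁ := fun i =>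
      (h i).1 (φ i ⁻¹' W₁) (φ i ⁻¹' W₂) (h₁.preimage (hφ i).continuous)
        (h₂.preimage (hφ i).continuous) (hdj.preimage _) (by rw [← Set.preimage_union, hu])
    choose U hUc hUZ using hU
    have hpre : ∀ i, φ i ⁻¹' (⋃ k, φ k '' U k) = U i := by
      intro i
      ext x
      simp only [Set.mem_preimage, Set.mem_iUnion, Set.mem_image]
      constructor
      · rintro ⟨k, y, hy, hyx⟩
        by_cases hik : k = i
        · subst hik
          rwa [(hφ k).injective hyx] at hy
        · exact absurd (⟨x, rfl⟩ : φ i x ∈ Set.range (φ i))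
            (Set.disjoint_left.mp (hd k i hik) ⟨y, hyx⟩)
      · intro hx
        exact ⟨i, x, hx, rfl⟩
    refine ⟨⋃ k, φ k '' U k, hcl _ fun i => by rw [hpre]; exact hUc i, ?_⟩
    ext x
    obtain ⟨i, y, rfl⟩ := hc x
    have h3 : y ∈ φ i ⁻¹' ((⋃ k, φ k '' U k) ∩ Z) ↔ y ∈ φ i ⁻¹' W₁ := by
      rw [Set.preimage_inter, hpre, hUZ]
    exact h3
  · intro U hU hUZ
    ext x
    obtain ⟨i, y, rfl⟩ := hc x
    have h3 := (h i).2 (φ i ⁻¹' U) (hU.preimage (hφ i).continuous) (by
      rw [← Set.preimage_inter, hUZ, Set.preimage_empty])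
    have h4 : y ∈ φ i ⁻¹' U ↔ y ∈ (∅ : Set (P i)) := by rw [h3]
    exact h4

theorem fst_iff {X X₀ Y : Scheme.{u}} (g : Y ⟶ X) (i : X₀ ⟶ X) [IsClosedImmersion i] :
    (∀ V : Set ↥(pullback g i), IsClopen V →
        ∃! U : Set ↥Y, IsClopen U ∧ (pullback.fst g i).base ⁻¹' U = V) ↔
      HTop (g ⁻¹' (Set.range i)) := by
  rw [← Scheme.Pullback.range_fst]
  exact hTop_range_iff (pullback.fst g i).isClosedEmbedding

theorem couple_iff {X X₀ : Scheme.{u}} (i : X₀ ⟶ X) [IsClosedImmersion i] :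
    (∀ (Y : Scheme.{u}) (g : Y ⟶ X), IsFinite g →
      ∀ V : Set ↥(pullback g i), IsClopen V →
        ∃! U : Set ↥Y, IsClopen U ∧ (pullback.fst g i).base ⁻¹' U = V) ↔
    ∀ (Y : Scheme.{u}) (g : Y ⟶ X), IsFinite g → HTop (g ⁻¹' (Set.range i)) := by
  constructor
  · intro h Y g hg
    exact (fst_iff g i).mp (h Y g hg)
  · intro h Y g hg
    exact (fst_iff g i).mpr (h Y g hg)

theorem couple_baseChange {X X₀ : Scheme.{u}} (i : X₀ ⟶ X) [IsClosedImmersion i]
    (h : ∀ (Y : Scheme.{u}) (g : Y ⟶ X), IsFinite g → HTop (g ⁻¹' (Set.range i)))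
    {Y : Scheme.{u}} (f : Y ⟶ X) [IsFinite f] (Z : Scheme.{u}) (g : Z ⟶ Y) (hg : IsFinite g) :
    HTop (g ⁻¹' (Set.range (pullback.fst f i))) := by
  rw [Scheme.Pullback.range_fst, ← Set.preimage_comp]
  exact h Z (g ≫ f) inferInstance

/-! ### Disjoint unions -/

lemma isOpenImmersion_ι {I : Type u} (N : I → Scheme.{u}) (i : I) :
    IsOpenImmersion (Sigma.ι N i) :=
  inferInstanceAs (IsOpenImmersion ((sigmaOpenCover N).f i))

lemma isPullback_sigma {I : Type u} (B N : I → Scheme.{u}) (f : ∀ i, N i ⟶ B i) (i : I) :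
    IsPullback (Sigma.ι N i) (f i) (Limits.Sigma.map f) (Sigma.ι B i) := by
  have := isOpenImmersion_ι N i
  have := isOpenImmersion_ι B i
  refine ⟨⟨by simp⟩, ⟨PullbackCone.isLimitAux' _ fun s => ?_⟩⟩
  have hr : Set.range s.fst ⊆ Set.range (Sigma.ι N i) := by
    rintro _ ⟨x, rfl⟩
    obtain ⟨k, y, hy⟩ := (sigmaOpenCover N).exists_eq (s.fst x)
    change N k at y
    change Sigma.ι N k y = _ at hy
    have h1 : Sigma.ι B k (f k y) = Sigma.ι B i (s.snd x) := by
      rw [← Scheme.Hom.comp_apply, ← Scheme.Hom.comp_apply, ← s.condition,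
        Scheme.Hom.comp_apply s.fst, ← hy, ← Scheme.Hom.comp_apply]
      congr 1
      simp
    obtain ⟨rfl, -⟩ := Sigma.mk.inj_iff.1 ((sigmaι_eq_iff B k i _ _).1 h1)
    exact ⟨y, hy⟩
  let l := IsOpenImmersion.lift (Sigma.ι N i) s.fst hr
  have hl : l ≫ Sigma.ι N i = s.fst := IsOpenImmersion.lift_fac (Sigma.ι N i) s.fst hr
  refine ⟨l, hl, ?_, ?_⟩
  · have h2 : (l ≫ f i) ≫ Sigma.ι B i = s.snd ≫ Sigma.ι B i := by
      rw [← s.condition, Category.assoc, ← hl, Category.assoc]
      simp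
    exact (cancel_mono (Sigma.ι B i)).1 h2
  · intro m h1 _
    exact (cancel_mono (Sigma.ι N i)).1 (h1.trans hl.symm)

theorem sigmaMap_of_isZariskiLocalAtTarget (P : MorphismProperty Scheme.{u})
    [IsZariskiLocalAtTarget P] {I : Type u} {X Y : I → Scheme.{u}} (f : ∀ i, X i ⟶ Y i)
    (h : ∀ i, P (f i)) : P (Limits.Sigma.map f) := by
  refine (IsZariskiLocalAtTarget.iff_of_openCover (P := P) (sigmaOpenCover Y)).mpr fun i ↦ ?_
  have h1 := isPullback_sigma Y X f i
  have h2 : P (f i) ↔ P (pullback.snd (Limits.Sigma.map f) (Sigma.ι Y i)) := by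
    rw [← h1.isoPullback_hom_snd, P.cancel_left_of_respectsIso]
  exact h2.1 (h i)

lemma exists_sigmaι {I : Type u} (N : I → Scheme.{u}) (x : (∐ N : Scheme.{u})) :
    ∃ (k : I) (y : N k), Sigma.ι N k y = x := by
  obtain ⟨k, y, hy⟩ := (sigmaOpenCover N).exists_eq x
  exact ⟨k, y, hy⟩

lemma ι_preimage_range {I : Type u} (X X₀ : I → Scheme.{u}) (i : ∀ j, X₀ j ⟶ X j) (j : I) :
    (Sigma.ι X j) ⁻¹' (Set.range (Limits.Sigma.map i)) = Set.range (i j) := by
  have h := isPullback_sigma X X₀ i j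
  ext x
  constructor
  · rintro ⟨z, hz⟩
    obtain ⟨w, -, hw⟩ := Scheme.Pullback.exists_preimage_pullback z x hz
    refine ⟨h.isoPullback.inv w, ?_⟩
    rw [← Scheme.Hom.comp_apply, h.isoPullback_inv_snd]
    exact hw
  · rintro ⟨z, rfl⟩
    refine ⟨Sigma.ι X₀ j z, ?_⟩
    rw [← Scheme.Hom.comp_apply, ← Scheme.Hom.comp_apply, h.w]

lemma isClosedImmersion_sigmaι {I : Type u} (X : I → Scheme.{u}) (j : I) :
    IsClosedImmersion (Sigma.ι X j) := by
  classical
  have hopen := isOpenImmersion_ι X j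
  refine (IsZariskiLocalAtTarget.iff_of_openCover (P := @IsClosedImmersion)
    (sigmaOpenCover X)).mpr fun k ↦ ?_
  change IsClosedImmersion (pullback.snd (Sigma.ι X j) (Sigma.ι X k))
  by_cases hjk : j = k
  · subst hjk
    infer_instance
  · have := isEmpty_pullback_sigmaι_of_ne X hjk
    infer_instance

theorem sigma_iff {I : Type u} (X X₀ : I → Scheme.{u}) (i : ∀ j, X₀ j ⟶ X j) :
    (∀ (Y : Scheme.{u}) (g : Y ⟶ ∐ X), IsFinite g →
      HTop (g ⁻¹' (Set.range (Limits.Sigma.map i)))) ↔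
    ∀ j : I, ∀ (Y : Scheme.{u}) (g : Y ⟶ X j), IsFinite g → HTop (g ⁻¹' (Set.range (i j))) := by
  constructor
  · intro h j Y g hg
    have := isClosedImmersion_sigmaι X j
    have h1 := h Y (g ≫ Sigma.ι X j) inferInstance
    have h2 : (g ≫ Sigma.ι X j) ⁻¹' (Set.range (Limits.Sigma.map i)) =
        g ⁻¹' (Set.range (i j)) := by
      rw [← ι_preimage_range X X₀ i j, ← Set.preimage_comp]
      rfl
    rwa [h2] at h1
  · intro h Y g hg
    have hopen := fun j => isOpenImmersion_ι X j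
    refine hTop_of_pieces (fun j => pullback.fst g (Sigma.ι X j))
      (fun j => (pullback.fst g (Sigma.ι X j)).isOpenEmbedding) ?_ ?_ ?_
    · intro j k hjk
      rw [Scheme.Pullback.range_fst, Scheme.Pullback.range_fst]
      refine Disjoint.preimage _ ?_
      have := disjoint_opensRange_sigmaι X j k hjk
      rw [Set.disjoint_left]
      rintro _ ⟨y, rfl⟩ ⟨z, hz⟩
      obtain ⟨rfl, -⟩ := Sigma.mk.inj_iff.1 ((sigmaι_eq_iff X k j _ _).1 hz)
      exact hjk rfl
    · intro x
      obtain ⟨k, y, hy⟩ := exists_sigmaι X (g x)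
      refine ⟨k, ?_⟩
      rw [Scheme.Pullback.range_fst]
      exact ⟨y, hy⟩
    · intro j
      have h1 := h j _ (pullback.snd g (Sigma.ι X j)) inferInstance
      rw [← ι_preimage_range X X₀ i j, ← Set.preimage_comp] at h1
      rw [← Set.preimage_comp]
      have h2 : (g ∘ (pullback.fst g (Sigma.ι X j)) : _ → (∐ X : Scheme.{u})) =
          (Sigma.ι X j) ∘ (pullback.snd g (Sigma.ι X j)) := by
        have := congrArg (fun f : pullback g (Sigma.ι X j) ⟶ ∐ X => (f : _ → (∐ X : Scheme.{u})))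
          (pullback.condition (f := g) (g := Sigma.ι X j))
        exact this
      rw [h2]
      exact h1

/-- Connectedness of the two members of a pair of spaces agree if `HTop` holds. -/
theorem connectedSpace_iff {T T₀ : Type*} [TopologicalSpace T] [TopologicalSpace T₀] {j : T₀ → T}
    (hj : IsClosedEmbedding j) (h : HTop (Set.range j)) : ConnectedSpace T ↔ ConnectedSpace T₀ := by
  have hu := (hTop_range_iff hj).mpr h
  have hne : Nonempty T ↔ Nonempty T₀ := by
    constructor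
    · intro hT
      by_contra hT₀
      rw [not_nonempty_iff] at hT₀
      have := h.2 Set.univ isClopen_univ (by rw [Set.range_eq_empty, Set.inter_empty])
      exact Set.univ_nonempty.ne_empty this
    · rintro ⟨x⟩
      exact ⟨j x⟩
  rw [connectedSpace_iff_clopen, connectedSpace_iff_clopen, hne]
  refine and_congr_right fun _ => ?_
  constructor
  · intro hT V hV
    obtain ⟨U, ⟨hU, rfl⟩, -⟩ := hu V hV
    rcases hT U hU with rfl | rfl
    · left; simp
    · right; simp
  · intro hT₀ U hU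
    obtain ⟨U', hU', huniq⟩ := hu (j ⁻¹' U) (hU.preimage hj.continuous)
    rcases hT₀ (j ⁻¹' U) (hU.preimage hj.continuous) with h1 | h1
    · left
      rw [huniq U ⟨hU, rfl⟩, huniq ∅ ⟨isClopen_empty, by rw [h1]; simp⟩]
    · right
      rw [huniq U ⟨hU, rfl⟩, huniq Set.univ ⟨isClopen_univ, by rw [h1]; simp⟩]

end K146.Couple
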