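import Groth.Agent.Hensel.K146.EtNbhd
import Mathlib.RingTheory.Flat.EquationalCriterion

/-!
# The henselization of a pair is the colimit of its étale neighbourhoods
-/

set_option autoImplicit false
universe u v w

open TensorProduct
open Groth.Agent.Etalg.PtEt Groth.Agent.Etalg.PtEtSystem Groth.Agent.Etalg.PtEtHens
  Groth.Agent.Etalg.PairHens Groth.Agent.Etalg.PairHens2 Groth.Agent.Hensel

namespace K146.EtNbhd

variable {A : Type u} [CommRing A] {I : Ideal A}

theorem QB.exists_hom {A' : Type u} [CommRing A'] [Algebra A A'] [Algebra.Etale A A']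
    (h : QB A I A') (C : Type u) [CommRing C] [Algebra A C]
    (hC : HenselianRing C (I.map (algebraMap A C))) : Nonempty (A' →ₐ[A] C) := by
  obtain ⟨σ, -⟩ := h.exists_point
  have h0 : ∀ a ∈ I, (Algebra.ofId A (C ⧸ I.map (algebraMap A C))) a = 0 := fun a ha =>
    Ideal.Quotient.eq_zero_iff_mem.2 (Ideal.mem_map_of_mem _ ha)
  let τ : (A ⧸ I) →ₐ[A] C ⧸ I.map (algebraMap A C) := Ideal.Quotient.liftₐ I (Algebra.ofId A _) h0
  obtain ⟨f, -⟩ := PairLift.exists_algHom_lift (I.map (algebraMap A C)) (τ.comp σ)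
  exact ⟨f⟩

theorem QB.hom_unique {A' : Type u} [CommRing A'] [Algebra A A'] [Algebra.Etale A A']
    (h : QB A I A') (C : Type u) [CommRing C] [Algebra A C]
    (hC : I.map (algebraMap A C) ≤ Ideal.jacobson ⊥) (f g : A' →ₐ[A] C) : f = g :=
  LocalEtale.algHom_eq_of_sub_mem_jacobson (I.map (algebraMap A C)) hC f g
    fun x => h.point_unique f g x

/-- Every element of the henselization comes from a neighbourhood. -/
theorem exists_rep {B : Type u} [CommRing B] [Algebra A B] (hB : Hens2.IsPairHenselization A I B)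
    (x : B) : ∃ (A' : Type u) (_ : CommRing A') (_ : Algebra A A') (_ : Algebra.Etale A A'),
      QB A I A' ∧ ∃ (φ : A' →ₐ[A] B) (s : A'), φ s = x := by
  obtain ⟨e⟩ := exists_equiv hB (isPairHenselization_Hens A I)
  obtain ⟨i, y, hy⟩ := exists_ofR (e x)
  obtain ⟨c, hc, hq⟩ := exists_nbhd (R := i.R) i.σ
  have hu : IsUnit (ofR i c) := by
    apply Hens.isUnit_of_τ
    rw [τ_ofR, hc]
    exact isUnit_one
  let φ₀ : i.R →ₐ[A] B := e.symm.toAlgHom.comp (ofR i)
  have hu' : ∀ z : Submonoid.powers c, IsUnit (φ₀ z) := by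
    rintro ⟨_, n, rfl⟩
    change IsUnit (φ₀ (c ^ n))
    rw [map_pow]
    exact (hu.map e.symm).pow n
  let φ : Localization.Away c →ₐ[A] B :=
    IsLocalization.liftAlgHom (M := Submonoid.powers c) (f := φ₀) hu'
  refine ⟨Localization.Away c, inferInstance, inferInstance, inferInstance, hq, φ,
    algebraMap i.R _ y, ?_⟩
  have h1 : φ (algebraMap i.R _ y) = φ₀ y := IsLocalization.lift_eq _ y
  rw [h1]
  change e.symm (ofR i y) = x
  rw [hy, AlgEquiv.symm_apply_apply]

/-- Elements of a neighbourhood which die in the henselization die in a smaller neighbourhood. -/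
theorem exists_kill {B : Type u} [CommRing B] [Algebra A B] (hB : Hens2.IsPairHenselization A I B)
    (A' : Type u) [CommRing A'] [Algebra A A'] [Algebra.Etale A A'] (h : QB A I A')
    (φ : A' →ₐ[A] B) (s : A') (hs : φ s = 0) :
    ∃ (A'' : Type u) (_ : CommRing A'') (_ : Algebra A A'') (_ : Algebra.Etale A A''),
      QB A I A'' ∧ ∃ ψ : A' →ₐ[A] A'', ψ s = 0 := by
  let _ : Algebra A' B := φ.toRingHom.toAlgebra
  have : IsScalarTower A A' B := IsScalarTower.of_algebraMap_eq fun a => (φ.commutes a).symm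
  have : Module.Flat A B := Groth.Agent.Etalg.PairHens2.flat B hB
  have hflat : Module.Flat A' B := flat_of_unramified (A := A)
  have hqB : QB A I B := quot_bijective B hB
  have hrel : ∑ i : Fin 1, (fun _ => s) i • (fun _ => (1 : B)) i = 0 := by
    simp only [Finset.univ_unique, Finset.sum_singleton, Algebra.smul_def, mul_one]
    exact hs
  obtain ⟨κ, a, y, h1, h2⟩ := (Module.Flat.iff_forall_isTrivialRelation.1 hflat) hrel
  have hy : ∀ j, ∃ b : A, y j - algebraMap A B b ∈ I.map (algebraMap A B) := fun j =>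
    (qb_iff.mp hqB).2 (y j)
  choose b hb using hy
  let c : A' := ∑ j, a 0 j * algebraMap A A' (b j)
  have hcs : s * c = 0 := by
    change s * ∑ j, a 0 j * algebraMap A A' (b j) = 0
    rw [Finset.mul_sum]
    refine Finset.sum_eq_zero fun j _ => ?_
    have h3 := h2 j
    simp only [Finset.univ_unique, Finset.sum_singleton] at h3
    have h4 : s * a 0 j = 0 := h3
    rw [← mul_assoc, h4, zero_mul]
  have hc1 : φ c - 1 ∈ I.map (algebraMap A B) := by
    have h3 : (1 : B) = ∑ j, a 0 j • y j := h1 0
    have h4 : φ c = ∑ j, a 0 j • algebraMap A B (b j) := by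
      change φ (∑ j, a 0 j * algebraMap A A' (b j)) = _
      rw [map_sum]
      refine Finset.sum_congr rfl fun j _ => ?_
      rw [map_mul, φ.commutes, Algebra.smul_def]
      rfl
    rw [h3, h4, ← Finset.sum_sub_distrib]
    refine Ideal.sum_mem _ fun j _ => ?_
    rw [← smul_sub, Algebra.smul_def]
    refine Ideal.mul_mem_left _ _ ?_
    rw [← neg_sub]
    exact (Ideal.neg_mem_iff _).mpr (hb j)
  have hc : c - 1 ∈ I.map (algebraMap A A') := by
    obtain ⟨d, hd⟩ := (qb_iff.mp h).2 (c - 1)
    have h5 : φ (c - 1 - algebraMap A A' d) ∈ I.map (algebraMap A B) := by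
      have h6 := Ideal.mem_map_of_mem φ.toRingHom hd
      rwa [Ideal.map_map, show φ.toRingHom.comp (algebraMap A A') = algebraMap A B from
        φ.comp_algebraMap] at h6
    rw [map_sub, map_sub, map_one, φ.commutes] at h5
    have h7 : algebraMap A B d ∈ I.map (algebraMap A B) := by
      have := Ideal.sub_mem _ hc1 h5
      rwa [sub_sub_cancel] at this
    have h8 := (qb_iff.mp hqB).1 d h7
    have h9 := Ideal.add_mem _ hd (Ideal.mem_map_of_mem (algebraMap A A') h8)
    rwa [sub_add_cancel] at h9
  refine ⟨Localization.Away c, inferInstance, inferInstance, inferInstance, h.away c hc,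
    IsScalarTower.toAlgHom A A' _, ?_⟩
  have hu : IsUnit (algebraMap A' (Localization.Away c) c) :=
    IsLocalization.Away.algebraMap_isUnit c
  have h3 := congrArg (algebraMap A' (Localization.Away c)) hcs
  rw [map_mul, map_zero, hu.mul_left_eq_zero] at h3
  exact h3

end K146.EtNbhd
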