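import Mathlib.RingTheory.Spectrum.Prime.Topology
import Mathlib.RingTheory.Artinian.Module
import Groth.Agent.Hensel.LocalSplit
import Groth.Agent.Hensel.PairIdem

/-!
Finite algebras over a local ring which are products of local rings.
-/

set_option autoImplicit false
universe u v w

open Groth.Agent.Hensel.LocalSplit

namespace K146.FinLocal

/-- Every maximal ideal of `B` is isolated by an idempotent. -/
def Isolated (B : Type v) [CommRing B] : Prop :=
  ∀ q : Ideal B, q.IsMaximal → ∃ e : B, IsIdempotentElem e ∧ e ∉ q ∧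
    ∀ q' : Ideal B, q'.IsMaximal → q' ≠ q → e ∈ q'

theorem isolated_of_pi {B : Type v} [CommRing B] {ι : Type w} [Fintype ι] (A : ι → Type u)
    [∀ i, CommRing (A i)] (hA : ∀ i, IsLocalRing (A i)) (ε : B ≃+* ∀ i, A i) : Isolated B := by
  classical
  intro q hq
  -- the projections
  let π : ∀ i, B →+* A i := fun i => (Pi.evalRingHom A i).comp ε.toRingHom
  let e : ι → B := fun i => ε.symm (Pi.single i 1)
  have hsum : ∑ i, e i = 1 := by
    apply ε.injective
    rw [map_sum, map_one]
    simp only [e, RingEquiv.apply_symm_apply]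
    exact Finset.univ_sum_single (1 : ∀ i, A i)
  have key : ∀ (p : Ideal B), p.IsMaximal → ∀ i, e i ∉ p →
      p = (IsLocalRing.maximalIdeal (A i)).comap (π i) := by
    intro p hp i hi
    refine hp.eq_of_le (Ideal.comap_isPrime (π i) _).ne_top ?_
    intro b hb
    rw [Ideal.mem_comap, IsLocalRing.mem_maximalIdeal, mem_nonunits_iff]
    intro hu
    obtain ⟨c, hc⟩ := isUnit_iff_exists_inv.mp hu
    apply hi
    have : e i = b * ε.symm (Pi.single i c) := by
      apply ε.injective
      rw [map_mul, RingEquiv.apply_symm_apply, RingEquiv.apply_symm_apply]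
      ext j
      by_cases hj : j = i
      · subst hj
        have hc' : ε b j * c = 1 := hc
        simp [hc']
      · simp [Pi.single_eq_of_ne hj]
    rw [this]
    exact Ideal.mul_mem_right _ _ hb
  obtain ⟨i, hi⟩ : ∃ i, e i ∉ q := by
    by_contra hn
    push Not at hn
    refine hq.ne_top ((Ideal.eq_top_iff_one _).mpr ?_)
    rw [← hsum]
    exact Ideal.sum_mem _ fun i _ => hn i
  refine ⟨e i, ?_, hi, ?_⟩
  · change e i * e i = e i
    apply ε.injective
    rw [map_mul, RingEquiv.apply_symm_apply, ← Pi.single_mul, mul_one]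
  · intro q' hq' hne
    by_contra hn
    exact hne ((key q' hq' i hn).trans (key q hq i hi).symm)

theorem exists_completeOrthogonalIdempotents {B : Type v} [CommRing B]
    [Fintype (MaximalSpectrum B)] (H : Isolated B) :
    ∃ e : MaximalSpectrum B → B, CompleteOrthogonalIdempotents e ∧
      (∀ q, e q ∉ q.asIdeal) ∧ ∀ q q', q ≠ q' → e q ∈ q'.asIdeal := by
  classical
  have H : ∀ q : MaximalSpectrum B, ∃ e : B, IsIdempotentElem e ∧ e ∉ q.asIdeal ∧
      ∀ q' : Ideal B, q'.IsMaximal → q' ≠ q.asIdeal → e ∈ q' := fun q ↦ H _ q.isMaximal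
  choose e he heq heq' using H
  have hne : ∀ q q' : MaximalSpectrum B, q ≠ q' → e q ∈ q'.asIdeal := fun q q' h ↦
    heq' q q'.asIdeal q'.isMaximal (fun h' ↦ h (MaximalSpectrum.ext h'.symm))
  have hort : OrthogonalIdempotents e := by
    refine ⟨he, fun q q' h ↦ ?_⟩
    refine eq_zero_of_mem_jacobson ((he q).mul (he q')) fun p hp ↦ ?_
    by_cases hpq : p = q.asIdeal
    · refine Ideal.mul_mem_left _ _ (heq' _ _ hp fun h' ↦ h ?_)
      exact MaximalSpectrum.ext (hpq.symm.trans h')
    · exact Ideal.mul_mem_right _ _ (heq' _ _ hp hpq)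
  refine ⟨e, ⟨hort, ?_⟩, heq, hne⟩
  have h1 : 1 - ∑ q, e q = 0 := by
    refine eq_zero_of_mem_jacobson hort.isIdempotentElem_sum.one_sub fun p hp ↦ ?_
    let p' : MaximalSpectrum B := ⟨p, hp⟩
    rw [← Finset.add_sum_erase _ _ (Finset.mem_univ p'), ← sub_sub]
    refine p.sub_mem (one_sub_mem_of_notMem (he p') (heq p')) ?_
    refine p.sum_mem fun q hq ↦ hne q p' (Finset.ne_of_mem_erase hq)
  exact (sub_eq_zero.mp h1).symm

theorem exists_pi_of_isolated {B : Type v} [CommRing B] [Finite (MaximalSpectrum B)]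
    (H : Isolated B) :
    ∃ (ι : Type v) (_ : Fintype ι) (C : ι → Type v) (_ : ∀ j, CommRing (C j)),
        (∀ j, IsLocalRing (C j)) ∧ Nonempty (B ≃+* (∀ j, C j)) := by
  have := Fintype.ofFinite (MaximalSpectrum B)
  obtain ⟨e, he, heq, hne⟩ := exists_completeOrthogonalIdempotents H
  refine ⟨MaximalSpectrum B, inferInstance, fun q ↦ B ⧸ Ideal.span {1 - e q}, inferInstance,
    ?_, ?_⟩
  · intro q
    refine isLocalRing_quotient_one_sub (he.idem q) q.isMaximal (heq q) fun q' hq' hn ↦ ?_
    exact hne q ⟨q', hq'⟩ (fun h ↦ hn (by rw [h]))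
  · exact ⟨RingEquiv.ofBijective _ he.bijective_pi⟩

theorem toPiLocalization_surjective_of_isolated {B : Type v} [CommRing B]
    [Finite (MaximalSpectrum B)] (H : Isolated B) :
    Function.Surjective (MaximalSpectrum.toPiLocalization B) := by
  classical
  have := Fintype.ofFinite (MaximalSpectrum B)
  obtain ⟨e, he, heq, hne⟩ := exists_completeOrthogonalIdempotents H
  intro z
  have h1 : ∀ q : MaximalSpectrum B, algebraMap B (Localization.AtPrime q.asIdeal) (e q) = 1 := by
    intro q
    have hu : IsUnit (algebraMap B (Localization.AtPrime q.asIdeal) (e q)) :=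
      IsLocalization.map_units (M := q.asIdeal.primeCompl) _ (⟨e q, heq q⟩ : q.asIdeal.primeCompl)
    have h2 := congrArg (algebraMap B (Localization.AtPrime q.asIdeal)) (he.idem q).eq
    rw [map_mul] at h2
    exact hu.mul_eq_left.mp h2
  have h0 : ∀ q q' : MaximalSpectrum B, q ≠ q' →
      algebraMap B (Localization.AtPrime q'.asIdeal) (e q) = 0 := by
    intro q q' h
    rw [← mul_one (algebraMap B (Localization.AtPrime q'.asIdeal) (e q)), ← h1 q', ← map_mul,
      he.ortho h, map_zero]
  have hb : ∀ q : MaximalSpectrum B, ∃ b : B,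
      algebraMap B (Localization.AtPrime q.asIdeal) b = z q := by
    intro q
    obtain ⟨x, ⟨s, hs⟩, hxs⟩ := IsLocalization.exists_mk'_eq q.asIdeal.primeCompl (z q)
    have hu : IsUnit (e q * s + (1 - e q)) := by
      by_contra hn
      obtain ⟨p, hp, hle⟩ := exists_max_ideal_of_mem_nonunits hn
      by_cases hpq : p = q.asIdeal
      · subst hpq
        have h3 : 1 - e q ∈ q.asIdeal := one_sub_mem_of_notMem (he.idem q) (heq q)
        have h4 : e q * s ∈ q.asIdeal := by
          have := q.asIdeal.sub_mem hle h3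
          rwa [add_sub_cancel_right] at this
        rcases hp.isPrime.mem_or_mem h4 with h5 | h5
        · exact heq q h5
        · exact hs h5
      · have h3 : e q ∈ p := hne q ⟨p, hp⟩ (fun h => hpq (by rw [h]))
        have h4 : (1 : B) ∈ p := by
          have := p.sub_mem hle (p.mul_mem_right (s - 1) h3)
          convert this using 1
          ring
        exact hp.ne_top ((Ideal.eq_top_iff_one _).mpr h4)
    obtain ⟨t, ht⟩ := isUnit_iff_exists_inv.mp hu
    refine ⟨x * t, ?_⟩
    rw [← hxs, IsLocalization.eq_mk'_iff_mul_eq]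
    have h3 := congrArg (algebraMap B (Localization.AtPrime q.asIdeal)) ht
    rw [map_mul, map_add, map_mul, map_sub, h1 q, map_one, sub_self, add_zero, one_mul] at h3
    change _ * algebraMap B _ s = _
    rw [map_mul]
    linear_combination (algebraMap B (Localization.AtPrime q.asIdeal) x) * h3
  choose b hb using hb
  refine ⟨∑ q, e q * b q, ?_⟩
  ext q
  rw [MaximalSpectrum.toPiLocalization_apply_apply, map_sum,
    Finset.sum_eq_single_of_mem q (Finset.mem_univ q)]
  · rw [map_mul, h1, one_mul, hb]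
  · intro q' _ hq'
    rw [map_mul, h0 q' q hq', zero_mul]

theorem isolated_of_idempotents_surj {A : Type u} [CommRing A] [IsLocalRing A] {B : Type v}
    [CommRing B] [Algebra A B] [Module.Finite A B]
    (H : Set.SurjOn (Ideal.Quotient.mk (Ideal.map (algebraMap A B) (IsLocalRing.maximalIdeal A)))
        {e : B | IsIdempotentElem e} {e | IsIdempotentElem e}) : Isolated B := by
  set J := Ideal.map (algebraMap A B) (IsLocalRing.maximalIdeal A) with hJ
  have hJr : J ≤ Ideal.jacobson ⊥ :=
    Groth.Agent.Hensel.PairIdem.map_le_jacobson_bot _ (IsLocalRing.maximalIdeal_le_jacobson _)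
  have hJm : ∀ q : Ideal B, q.IsMaximal → J ≤ q := fun q hq =>
    hJr.trans (sInf_le ⟨bot_le, hq⟩)
  have hart : IsArtinianRing (B ⧸ J) := by
    let _ : Algebra (A ⧸ IsLocalRing.maximalIdeal A) (B ⧸ J) :=
      Ideal.Quotient.algebraQuotientOfLEComap Ideal.le_comap_map
    have : IsScalarTower A (A ⧸ IsLocalRing.maximalIdeal A) (B ⧸ J) :=
      IsScalarTower.of_algebraMap_eq fun _ => rfl
    have : Module.Finite (A ⧸ IsLocalRing.maximalIdeal A) (B ⧸ J) :=
      Module.Finite.of_restrictScalars_finite A _ _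
    let _ : Field (A ⧸ IsLocalRing.maximalIdeal A) := Ideal.Quotient.field _
    exact IsArtinianRing.of_finite (A ⧸ IsLocalRing.maximalIdeal A) (B ⧸ J)
  have hfm : Finite (MaximalSpectrum (B ⧸ J)) := inferInstance
  have := Fintype.ofFinite (MaximalSpectrum (B ⧸ J))
  have hiso : Isolated (B ⧸ J) := isolated_of_pi
    (fun q : MaximalSpectrum (B ⧸ J) => Localization.AtPrime q.asIdeal)
    (fun q => inferInstance) (MaximalSpectrum.toPiLocalizationEquiv (B ⧸ J)).toRingEquiv
  intro q hq
  obtain ⟨e₀, he₀, heq₀, hne₀⟩ := hiso (q.map (Ideal.Quotient.mk J))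
    (Ideal.IsMaximal.map_of_surjective_of_ker_le Ideal.Quotient.mk_surjective
      (by rw [Ideal.mk_ker]; exact hJm q hq))
  obtain ⟨e, he, rfl⟩ := H he₀
  refine ⟨e, he, fun h => heq₀ (Ideal.mem_map_of_mem _ h), ?_⟩
  intro q' hq' hne
  have hq'm : (q'.map (Ideal.Quotient.mk J)).IsMaximal :=
    Ideal.IsMaximal.map_of_surjective_of_ker_le Ideal.Quotient.mk_surjective
      (by rw [Ideal.mk_ker]; exact hJm q' hq')
  have hcomap : ∀ p : Ideal B, p.IsMaximal →
      (p.map (Ideal.Quotient.mk J)).comap (Ideal.Quotient.mk J) = p := by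
    intro p hp
    rw [Ideal.comap_map_of_surjective _ Ideal.Quotient.mk_surjective, ← RingHom.ker,
      Ideal.mk_ker, sup_eq_left]
    exact hJm p hp
  have h1 := hne₀ _ hq'm (fun h => hne (by rw [← hcomap q hq, ← hcomap q' hq', h]))
  have h2 : e ∈ (q'.map (Ideal.Quotient.mk J)).comap (Ideal.Quotient.mk J) := h1
  rwa [hcomap q' hq'] at h2

/-- Idempotents lift modulo every ideal in a finite product of local rings. -/
theorem exists_idem_of_pi {B : Type v} [CommRing B] {ι : Type w} (A : ι → Type u)
    [∀ i, CommRing (A i)] (hA : ∀ i, IsLocalRing (A i)) (ε : B ≃+* ∀ i, A i) (J : Ideal B) :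
    Set.SurjOn (Ideal.Quotient.mk J) {e : B | IsIdempotentElem e} {e | IsIdempotentElem e} := by
  intro b hb
  obtain ⟨b, rfl⟩ := Ideal.Quotient.mk_surjective b
  have hi : ∀ i, ∃ e u : A i, e * e = e ∧ e - ε b i = u * (ε b i * ε b i - ε b i) := by
    intro i
    have := hA i
    rcases IsLocalRing.isUnit_or_isUnit_one_sub_self (ε b i) with hu | hu
    · obtain ⟨u, hu⟩ := isUnit_iff_exists_inv'.mp hu
      exact ⟨1, -u, by simp, by linear_combination (1 - ε b i) * (-hu)⟩
    · obtain ⟨u, hu⟩ := isUnit_iff_exists_inv'.mp hu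
      exact ⟨0, u, by simp, by linear_combination (ε b i) * hu⟩
  choose e u he hu using hi
  refine ⟨ε.symm e, ?_, ?_⟩
  · change ε.symm e * ε.symm e = ε.symm e
    rw [← map_mul]
    congr 1
    ext i
    exact he i
  · rw [Ideal.Quotient.eq]
    have h1 : ε.symm e - b = ε.symm u * (b * b - b) := by
      apply ε.injective
      ext i
      simpa using hu i
    rw [h1]
    refine Ideal.mul_mem_left _ _ ?_
    rw [← Ideal.Quotient.eq, map_mul]
    exact hb

end K146.FinLocal
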