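import Groth.Agent.Hensel.K145.Nbhd
import Groth.Agent.Hensel.K144.Locus
import Groth.Agent.Hensel.K144.Hfp
import Groth.Agent.Hensel.FinitePart
import Groth.Agent.Hensel.K146.EtNbhd
import Groth.Agent.Flat2A.UnivInj
import Mathlib.Algebra.Polynomial.Lifts
import Mathlib.RingTheory.Idempotents

/-!
# Finite étale-local models of algebras which are finite modulo an ideal

* `exists_smul_eq_zero`: an element of a module which dies over the henselization of `(A, I)` is killed by some
  `c ≡ 1 mod I`.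
* `QBh I f`: the ring homomorphism `f : A → A'` induces a bijection `A/I → A'/IA'`.
* `exists_model`: for a quasi-finite algebra of finite type `B` over `A` with `B/IB` finite there are an étale
  neighbourhood `A'` of `(A, I)` and an idempotent `e ≡ 1` of `A' ⊗ B` such that `(A' ⊗ B)/(1-e)` is finite over `A'`.
-/

set_option autoImplicit false

universe u

open TensorProduct

namespace K146.FinModel

open K145.Nbhd K145.Univ Groth.Agent.Etalg.PtEt Groth.Agent.Etalg.PtEtSystem
  Groth.Agent.Etalg.PtEtHens Groth.Agent.Etalg.PairHens Groth.Agent.Etalg.PairHens2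

section Kill

variable {A : Type u} [CommRing A] {I : Ideal A} {H : Type u} [CommRing H] [Algebra A H]

/-- An ideal which becomes the unit ideal in the henselization contains an element `≡ 1 mod I`. -/
theorem exists_mem_of_map_eq_top (h : Hens2.IsPairHenselization A I H) (J : Ideal A)
    (hJ : J.map (algebraMap A H) = ⊤) : ∃ c ∈ J, c - 1 ∈ I := by
  have hb := quot_bijective H h
  let e : (A ⧸ I) ≃+* (H ⧸ I.map (algebraMap A H)) := RingEquiv.ofBijective _ hb
  have h1 : (J.map (Ideal.Quotient.mk I)).map e.toRingHom = ⊤ := by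
    have h2 : e.toRingHom.comp (Ideal.Quotient.mk I) =
        (Ideal.Quotient.mk (I.map (algebraMap A H))).comp (algebraMap A H) :=
      RingHom.ext fun x => rfl
    rw [Ideal.map_map, h2, ← Ideal.map_map, hJ, Ideal.map_top]
  have h3 : J.map (Ideal.Quotient.mk I) = ⊤ := by
    have h4 := congrArg (Ideal.map e.symm.toRingHom) h1
    have h5 : e.symm.toRingHom.comp e.toRingHom = RingHom.id _ := RingHom.ext fun x => by simp
    rw [Ideal.map_map, h5, Ideal.map_id, Ideal.map_top] at h4
    exact h4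
  have h6 : (1 : A ⧸ I) ∈ J.map (Ideal.Quotient.mk I) := by rw [h3]; trivial
  obtain ⟨c, hc, hc1⟩ := (Ideal.mem_map_iff_of_surjective _ Ideal.Quotient.mk_surjective).1 h6
  refine ⟨c, hc, ?_⟩
  rw [← Ideal.Quotient.eq, hc1, map_one]

theorem exists_smul_eq_zero (h : Hens2.IsPairHenselization A I H) {M : Type u} [AddCommGroup M]
    [Module A M] (z : M) (hz : (1 : H) ⊗ₜ[A] z = 0) : ∃ c : A, c - 1 ∈ I ∧ c • z = 0 := by
  have hflat : Module.Flat A H := flat H h
  obtain ⟨c, hc, hc1⟩ := exists_mem_of_map_eq_top h _ (Groth.Agent.Flat2A.UnivInj.map_ann_eq_top z hz)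
  exact ⟨c, hc1, (Groth.Agent.Flat2A.UnivInj.mem_ann _ _).1 hc⟩

theorem exists_smul_eq_zero_finset (h : Hens2.IsPairHenselization A I H) {M : Type u}
    [AddCommGroup M] [Module A M] (s : Finset M) (hz : ∀ z ∈ s, (1 : H) ⊗ₜ[A] z = 0) :
    ∃ c : A, c - 1 ∈ I ∧ ∀ z ∈ s, c • z = 0 := by
  classical
  induction s using Finset.induction_on with
  | empty => exact ⟨1, by simp, by simp⟩
  | insert x s hx ih =>
    obtain ⟨a, ha, ha'⟩ := ih (fun y hy => hz y (Finset.mem_insert_of_mem hy))
    obtain ⟨b, hb, hb'⟩ := exists_smul_eq_zero h x (hz x (Finset.mem_insert_self _ _))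
    refine ⟨a * b, ?_, fun y hy => ?_⟩
    · have : a * b - 1 = a * (b - 1) + (a - 1) := by ring
      rw [this]; exact add_mem (Ideal.mul_mem_left _ _ hb) ha
    · rw [Finset.mem_insert] at hy
      rcases hy with rfl | hy
      · rw [mul_smul, hb', smul_zero]
      · rw [mul_comm a, mul_smul, ha' y hy, smul_zero]

end Kill

section QBh

/-- `f` induces a bijection `A/I → A'/IA'`. -/
def QBh {A A' : Type u} [CommRing A] [CommRing A'] (I : Ideal A) (f : A →+* A') : Prop :=
  (∀ a, f a ∈ I.map f → a ∈ I) ∧ ∀ x, ∃ a, x - f a ∈ I.map f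

variable {A A' A'' B : Type u} [CommRing A] [CommRing A'] [CommRing A''] [CommRing B] {I : Ideal A}

theorem qbh_of_bijective {f : A →+* A'}
    (h : Function.Bijective (Ideal.quotientMap (I.map f) f Ideal.le_comap_map)) : QBh I f := by
  let _ := f.toAlgebra
  exact K146.EtNbhd.qb_iff.mp h

theorem QBh.bijective {f : A →+* A'} (h : QBh I f) :
    Function.Bijective (Ideal.quotientMap (I.map f) f Ideal.le_comap_map) := by
  let _ := f.toAlgebra
  exact K146.EtNbhd.qb_iff.mpr h

theorem QBh.comp {f : A →+* A'} {g : A' →+* A''} (hf : QBh I f) (hg : QBh (I.map f) g) :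
    QBh I (g.comp f) := by
  refine ⟨fun a ha => hf.1 a (hg.1 _ ?_), fun x => ?_⟩
  · rw [Ideal.map_map]; exact ha
  · obtain ⟨y, hy⟩ := hg.2 x
    obtain ⟨a, ha⟩ := hf.2 y
    refine ⟨a, ?_⟩
    have h1 := Ideal.mem_map_of_mem g ha
    rw [Ideal.map_map] at h1 hy
    have h2 := Ideal.add_mem _ hy h1
    rwa [map_sub, sub_add_sub_cancel] at h2

theorem QBh.of_comp {f : A →+* A'} {g : A' →+* A''} (hf : QBh I f) (hgf : QBh I (g.comp f)) :
    QBh (I.map f) g := by
  refine ⟨fun y hy => ?_, fun x => ?_⟩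
  · obtain ⟨a, ha⟩ := hf.2 y
    have h1 := Ideal.mem_map_of_mem g ha
    rw [map_sub] at h1
    have h2 := Ideal.sub_mem _ hy h1
    rw [sub_sub_cancel, Ideal.map_map] at h2
    have h3 := Ideal.mem_map_of_mem f (hgf.1 a h2)
    have h4 := Ideal.add_mem _ ha h3
    rwa [sub_add_cancel] at h4
  · obtain ⟨a, ha⟩ := hgf.2 x
    refine ⟨f a, ?_⟩
    rw [Ideal.map_map]
    exact ha

/-- Base change. -/
theorem QBh.baseChange [Algebra A A'] [Algebra A B] (h : QBh I (algebraMap A A')) :
    QBh (I.map (algebraMap A B))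
      (Algebra.TensorProduct.includeRight : B →ₐ[A] A' ⊗[A] B).toRingHom := by
  have hmap : (I.map (algebraMap A B)).map
      (Algebra.TensorProduct.includeRight : B →ₐ[A] A' ⊗[A] B).toRingHom =
      I.map (algebraMap A (A' ⊗[A] B)) := by
    rw [Ideal.map_map]
    congr 1
    exact (Algebra.TensorProduct.includeRight : B →ₐ[A] A' ⊗[A] B).comp_algebraMap
  refine ⟨fun b hb => ?_, fun x => ?_⟩
  · have hq : K146.EtNbhd.QB A I A' := K146.EtNbhd.qb_iff.mpr h
    obtain ⟨σ, hσ⟩ := hq.exists_point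
    have h0 : ∀ a ∈ I, (Algebra.ofId A (B ⧸ I.map (algebraMap A B))) a = 0 := fun a ha =>
      Ideal.Quotient.eq_zero_iff_mem.2 (Ideal.mem_map_of_mem _ ha)
    let τ : (A ⧸ I) →ₐ[A] B ⧸ I.map (algebraMap A B) := Ideal.Quotient.liftₐ I (Algebra.ofId A _) h0
    let ρ : A' ⊗[A] B →ₐ[A] B ⧸ I.map (algebraMap A B) :=
      Algebra.TensorProduct.lift (τ.comp σ) (Ideal.Quotient.mkₐ A _) (fun _ _ => Commute.all _ _)
    have h1 : ρ (1 ⊗ₜ b) = 0 := by
      rw [hmap] at hb
      have h2 : I.map (algebraMap A (A' ⊗[A] B)) ≤ RingHom.ker ρ.toRingHom := by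
        rw [Ideal.map_le_iff_le_comap]
        intro a ha
        rw [Ideal.mem_comap, RingHom.mem_ker]
        change ρ (algebraMap A _ a) = 0
        rw [ρ.commutes]
        exact h0 a ha
      exact h2 hb
    have h3 : ρ (1 ⊗ₜ b) = Ideal.Quotient.mk _ b := by
      simp [ρ]
    rw [h3] at h1
    exact Ideal.Quotient.eq_zero_iff_mem.1 h1
  · rw [hmap]
    induction x using TensorProduct.induction_on with
    | zero => exact ⟨0, by simp⟩
    | add x y hx hy =>
      obtain ⟨a, ha⟩ := hx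
      obtain ⟨b, hb⟩ := hy
      refine ⟨a + b, ?_⟩
      rw [map_add, add_sub_add_comm]
      exact Ideal.add_mem _ ha hb
    | tmul x b =>
      obtain ⟨a, ha⟩ := h.2 x
      refine ⟨a • b, ?_⟩
      have h1 : x ⊗ₜ[A] b - (Algebra.TensorProduct.includeRight : B →ₐ[A] A' ⊗[A] B).toRingHom (a • b)
          = ((x - algebraMap A A' a) ⊗ₜ[A] 1) * (1 ⊗ₜ[A] b) := by
        have h2 : (Algebra.TensorProduct.includeRight : B →ₐ[A] A' ⊗[A] B).toRingHom (a • b) =
          1 ⊗ₜ[A] (a • b) := rfl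
        rw [h2, Algebra.TensorProduct.tmul_mul_tmul, mul_one, one_mul, TensorProduct.sub_tmul,
          TensorProduct.tmul_smul, TensorProduct.smul_tmul', Algebra.smul_def, mul_one]
      rw [h1]
      refine Ideal.mul_mem_right _ _ ?_
      have h3 := Ideal.mem_map_of_mem (Algebra.TensorProduct.includeLeft : A' →ₐ[A] A' ⊗[A] B).toRingHom ha
      rw [Ideal.map_map, show (Algebra.TensorProduct.includeLeft : A' →ₐ[A] A' ⊗[A] B).toRingHom.comp
        (algebraMap A A') = algebraMap A (A' ⊗[A] B) from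
        (Algebra.TensorProduct.includeLeft : A' →ₐ[A] A' ⊗[A] B).comp_algebraMap] at h3
      exact h3

end QBh

section Main

variable {A : Type u} [CommRing A] {I : Ideal A}

theorem finite_quotient_baseChange {H : Type u} [CommRing H] [Algebra A H] {B : Type u} [CommRing B]
    [Algebra A B] (hfin : Module.Finite A (B ⧸ I.map (algebraMap A B))) :
    Module.Finite H ((H ⊗[A] B) ⧸ (I.map (algebraMap A H)).map (algebraMap H (H ⊗[A] B))) := by
  let K := (I.map (algebraMap A H)).map (algebraMap H (H ⊗[A] B))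
  have hK : K = I.map (algebraMap A (H ⊗[A] B)) := by
    change (I.map (algebraMap A H)).map (algebraMap H (H ⊗[A] B)) = _
    rw [Ideal.map_map, ← IsScalarTower.algebraMap_eq]
  let g : B →ₐ[A] (H ⊗[A] B) ⧸ K :=
    (Ideal.Quotient.mkₐ A K).comp Algebra.TensorProduct.includeRight
  have hg : ∀ b ∈ I.map (algebraMap A B), g b = 0 := by
    intro b hb
    have h1 : I.map (algebraMap A B) ≤ RingHom.ker g.toRingHom := by
      rw [Ideal.map_le_iff_le_comap]
      intro a ha
      rw [Ideal.mem_comap, RingHom.mem_ker]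
      change g (algebraMap A _ a) = 0
      rw [g.commutes, IsScalarTower.algebraMap_apply A (H ⊗[A] B) ((H ⊗[A] B) ⧸ K)]
      exact Ideal.Quotient.eq_zero_iff_mem.2 (by rw [hK]; exact Ideal.mem_map_of_mem _ ha)
    exact h1 hb
  let q : H ⊗[A] (B ⧸ I.map (algebraMap A B)) →ₐ[H] (H ⊗[A] B) ⧸ K :=
    Algebra.TensorProduct.lift (Algebra.ofId H _) (Ideal.Quotient.liftₐ _ g hg)
      (fun _ _ => Commute.all _ _)
  have hq : Function.Surjective q := by
    intro y
    obtain ⟨x, rfl⟩ := Ideal.Quotient.mk_surjective y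
    induction x using TensorProduct.induction_on with
    | zero => exact ⟨0, by simp⟩
    | add x y hx hy =>
      obtain ⟨a, ha⟩ := hx
      obtain ⟨b, hb⟩ := hy
      exact ⟨a + b, by rw [map_add, ha, hb, map_add]⟩
    | tmul x b =>
      refine ⟨x ⊗ₜ Ideal.Quotient.mk _ b, ?_⟩
      change algebraMap H ((H ⊗[A] B) ⧸ K) x * Ideal.Quotient.mk K (1 ⊗ₜ b) = _
      rw [IsScalarTower.algebraMap_apply H (H ⊗[A] B) ((H ⊗[A] B) ⧸ K)]
      change Ideal.Quotient.mk K (x ⊗ₜ 1) * Ideal.Quotient.mk K (1 ⊗ₜ b) = _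
      rw [← map_mul, Algebra.TensorProduct.tmul_mul_tmul, mul_one, one_mul]
  exact Module.Finite.of_surjective q.toLinearMap hq

/-- Monic equations for the elements of an algebra whose quotient by `1 - e` is finite. -/
theorem exists_monic {H : Type u} [CommRing H] {T : Type u} [CommRing T] [Algebra H T] (e : T)
    (he : IsIdempotentElem e) (hefin : Module.Finite H (T ⧸ Ideal.span {1 - e})) (x : T) :
    ∃ P : Polynomial H, P.Monic ∧ e * Polynomial.aeval x P = 0 := by
  let m : T →ₐ[H] T ⧸ Ideal.span {1 - e} := Ideal.Quotient.mkₐ H _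
  have h1 : IsIntegral H (m x) := Algebra.IsIntegral.isIntegral _
  obtain ⟨P, hP, hP1⟩ := h1
  refine ⟨P, hP, ?_⟩
  have h2 : m (Polynomial.aeval x P) = 0 := by
    rw [← Polynomial.aeval_algHom_apply]
    exact hP1
  change Ideal.Quotient.mk _ _ = 0 at h2
  rw [Ideal.Quotient.eq_zero_iff_mem, Ideal.mem_span_singleton'] at h2
  obtain ⟨y, hy⟩ := h2
  rw [← hy]
  have h3 : e * (1 - e) = 0 := by rw [mul_sub, mul_one, he.eq, sub_self]
  rw [mul_left_comm, h3, mul_zero]

/-- Conversely. -/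
theorem finite_of_monic {R T : Type u} [CommRing R] [CommRing T] [Algebra R T] (e : T)
    (s : Finset T) (hs : Algebra.adjoin R (s : Set T) = ⊤)
    (h : ∀ x ∈ s, ∃ P : Polynomial R, P.Monic ∧ e * Polynomial.aeval x P = 0) :
    Module.Finite R (T ⧸ Ideal.span {1 - e}) := by
  let m : T →ₐ[R] T ⧸ Ideal.span {1 - e} := Ideal.Quotient.mkₐ R _
  have hm : Function.Surjective m := Ideal.Quotient.mk_surjective
  have hgen : ∀ x ∈ s, IsIntegral R (m x) := by
    intro x hx
    obtain ⟨P, hP, hP0⟩ := h x hx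
    refine ⟨P, hP, ?_⟩
    have h2 : m (Polynomial.aeval x P) = 0 := by
      change Ideal.Quotient.mk _ _ = 0
      rw [Ideal.Quotient.eq_zero_iff_mem, Ideal.mem_span_singleton']
      refine ⟨Polynomial.aeval x P, ?_⟩
      rw [mul_sub, mul_one, mul_comm _ e, hP0, sub_zero]
    rw [← Polynomial.aeval_algHom_apply] at h2
    exact h2
  have hint : Algebra.IsIntegral R (T ⧸ Ideal.span {1 - e}) := by
    refine ⟨fun q => ?_⟩
    obtain ⟨w, rfl⟩ := hm q
    have h1 : (⊤ : Subalgebra R T) ≤ (integralClosure R (T ⧸ Ideal.span {1 - e})).comap m := by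
      rw [← hs, Algebra.adjoin_le_iff]
      intro x hx
      exact hgen x hx
    exact h1 (x := w) trivial
  have : Algebra.FiniteType R T := ⟨⟨s, hs⟩⟩
  have : Algebra.FiniteType R (T ⧸ Ideal.span {1 - e}) := Algebra.FiniteType.of_surjective m hm
  exact Algebra.IsIntegral.finite

theorem adjoin_tensor {R B : Type u} [CommRing R] [Algebra A R] [CommRing B] [Algebra A B]
    [DecidableEq (R ⊗[A] B)] (s : Finset B) (hs : Algebra.adjoin A (s : Set B) = ⊤) :
    Algebra.adjoin R ((s.image fun b => (1 : R) ⊗ₜ[A] b : Finset (R ⊗[A] B)) : Set (R ⊗[A] B)) = ⊤ := by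
  rw [eq_top_iff]
  let F : B →ₐ[A] R ⊗[A] B := Algebra.TensorProduct.includeRight
  have h1 : (⊤ : Subalgebra A B) ≤ ((Algebra.adjoin R
      ((s.image fun b => (1 : R) ⊗ₜ[A] b : Finset (R ⊗[A] B)) : Set (R ⊗[A] B))).restrictScalars A).comap F := by
    rw [← hs, Algebra.adjoin_le_iff]
    intro x hx
    apply Algebra.subset_adjoin
    rw [Finset.coe_image]
    exact ⟨x, hx, rfl⟩
  intro w _
  induction w using TensorProduct.induction_on with
  | zero => exact Subalgebra.zero_mem _
  | add x y hx hy => exact Subalgebra.add_mem _ (hx trivial) (hy trivial)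
  | tmul a b =>
    have h2 : a ⊗ₜ[A] b = a • ((1 : R) ⊗ₜ[A] b) := by
      rw [TensorProduct.smul_tmul', smul_eq_mul, mul_one]
    have h3 : (1 : R) ⊗ₜ[A] b ∈ Algebra.adjoin R
      ((s.image fun b => (1 : R) ⊗ₜ[A] b : Finset (R ⊗[A] B)) : Set (R ⊗[A] B)) :=
      h1 (x := b) trivial
    rw [h2]
    exact Subalgebra.smul_mem _ h3 a

/-- Descent of the idempotent and the equations from the henselization to a neighbourhood, up to elements which die in
the henselization. -/
theorem exists_descend {H : Type u} [CommRing H] [Algebra A H] (hH : Hens2.IsPairHenselization A I H)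
    {B : Type u} [CommRing B] [Algebra A B] (e : H ⊗[A] B) (s : Finset B) (P : B → Polynomial H)
    (hPm : ∀ x, (P x).Monic) :
    ∃ (A' : Type u) (_ : CommRing A') (_ : Algebra A A') (φ : A' →ₐ[A] H), IsNbhd A I A' ∧
      ∃ e' : A' ⊗[A] B, Algebra.TensorProduct.map φ (AlgHom.id A B) e' = e ∧
        ∀ x ∈ s, ∃ Q : Polynomial A', Q.map φ.toRingHom = P x ∧ Q.Monic := by
  classical
  obtain ⟨t, ht⟩ := TensorProduct.exists_finset e
  obtain ⟨A', _, _, φ, hA', hφ⟩ := exists_nbhd_finset hH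
    ((t.image Prod.fst) ∪ s.biUnion fun x => (P x).coeffs)
  have hy : ∀ i : t, ∃ y : A', φ y = i.1.1 := fun i =>
    hφ _ (Finset.mem_union_left _ (Finset.mem_image_of_mem _ i.2))
  choose y hy using hy
  refine ⟨A', inferInstance, inferInstance, φ, hA', ∑ i : t, y i ⊗ₜ i.1.2, ?_, ?_⟩
  · rw [map_sum, ht, ← Finset.sum_coe_sort t (fun i => i.1 ⊗ₜ[A] i.2)]
    refine Finset.sum_congr rfl fun i _ => ?_
    rw [← hy i]
    rfl
  · intro x hx
    have hl : P x ∈ Polynomial.lifts φ.toRingHom := by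
      rw [Polynomial.lifts_iff_coeff_lifts]
      intro n
      by_cases h0 : (P x).coeff n = 0
      · exact ⟨0, by rw [h0, map_zero]⟩
      · obtain ⟨z, hz⟩ := hφ ((P x).coeff n) (Finset.mem_union_right _ (Finset.mem_biUnion.2
          ⟨x, hx, Polynomial.coeff_mem_coeffs h0⟩))
        exact ⟨z, hz⟩
    obtain ⟨Q, h1, -, h2⟩ := Polynomial.lifts_and_natDegree_eq_and_monic hl (hPm x)
    exact ⟨Q, h1, h2⟩

theorem map_aeval {R R' B : Type u} [CommRing R] [CommRing R'] [Algebra A R] [Algebra A R']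
    [CommRing B] [Algebra A B] (φ : R →ₐ[A] R') (x : B) (Q : Polynomial R) :
    Algebra.TensorProduct.map φ (AlgHom.id A B) (Polynomial.aeval ((1 : R) ⊗ₜ[A] x) Q) =
      Polynomial.aeval ((1 : R') ⊗ₜ[A] x) (Q.map φ.toRingHom) := by
  rw [Polynomial.aeval_def, Polynomial.aeval_def, Polynomial.eval₂_map]
  have h1 := Polynomial.hom_eval₂ Q (algebraMap R (R ⊗[A] B))
    (Algebra.TensorProduct.map φ (AlgHom.id A B)).toRingHom ((1 : R) ⊗ₜ[A] x)
  have h2 : (Algebra.TensorProduct.map φ (AlgHom.id A B)).toRingHom.comp (algebraMap R (R ⊗[A] B)) =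
      (algebraMap R' (R' ⊗[A] B)).comp φ.toRingHom := by
    refine RingHom.ext fun r => ?_
    change Algebra.TensorProduct.map φ (AlgHom.id A B) (r ⊗ₜ 1) = φ r ⊗ₜ 1
    rw [Algebra.TensorProduct.map_tmul, map_one]
  have h3 : (Algebra.TensorProduct.map φ (AlgHom.id A B)).toRingHom ((1 : R) ⊗ₜ[A] x) =
      (1 : R') ⊗ₜ[A] x := by
    change Algebra.TensorProduct.map φ (AlgHom.id A B) (1 ⊗ₜ x) = _
    rw [Algebra.TensorProduct.map_tmul, map_one, AlgHom.id_apply]
  rw [h2, h3] at h1
  exact h1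

/-- Elements of `A' ⊗ B` which die in `H ⊗ B` are killed by some `c ≡ 1`. -/
theorem exists_kill_tensor {H : Type u} [CommRing H] [Algebra A H] (hH : Hens2.IsPairHenselization A I H)
    {B : Type u} [CommRing B] [Algebra A B] {A' : Type u} [CommRing A'] [Algebra A A']
    (hA' : IsNbhd A I A') (φ : A' →ₐ[A] H) (s : Finset (A' ⊗[A] B))
    (hs : ∀ z ∈ s, Algebra.TensorProduct.map φ (AlgHom.id A B) z = 0) :
    ∃ c : A', c - 1 ∈ I.map (algebraMap A A') ∧ ∀ z ∈ s, c • z = 0 := by
  let _ : Algebra A' H := φ.toRingHom.toAlgebra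
  have : IsScalarTower A A' H := IsScalarTower.of_algebraMap_eq fun r => (φ.commutes r).symm
  have hH' := hA'.ph_up hH
  refine exists_smul_eq_zero_finset hH' s fun z hz => ?_
  have h1 : ∀ z : A' ⊗[A] B, Algebra.TensorProduct.cancelBaseChange A A' H H B (1 ⊗ₜ z) =
      Algebra.TensorProduct.map φ (AlgHom.id A B) z := by
    intro z
    induction z using TensorProduct.induction_on with
    | zero => simp
    | add x y hx hy => rw [TensorProduct.tmul_add, map_add, map_add, hx, hy]
    | tmul a b =>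
      rw [Algebra.TensorProduct.cancelBaseChange_tmul, Algebra.smul_def, mul_one]
      rfl
  apply (Algebra.TensorProduct.cancelBaseChange A A' H H B).injective
  rw [h1, hs z hz, map_zero]

theorem qbh_map {R R' B : Type u} [CommRing R] [CommRing R'] [Algebra A R] [Algebra A R']
    [CommRing B] [Algebra A B] (φ : R →ₐ[A] R') (hR : QBh I (algebraMap A R))
    (hR' : QBh I (algebraMap A R')) :
    QBh (I.map (algebraMap A (R ⊗[A] B))) (Algebra.TensorProduct.map φ (AlgHom.id A B)).toRingHom := by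
  have q1 := hR.baseChange (B := B)
  have q2 := hR'.baseChange (B := B)
  have hcomp : (Algebra.TensorProduct.map φ (AlgHom.id A B)).toRingHom.comp
      (Algebra.TensorProduct.includeRight : B →ₐ[A] R ⊗[A] B).toRingHom
      = (Algebra.TensorProduct.includeRight : B →ₐ[A] R' ⊗[A] B).toRingHom := by
    refine RingHom.ext fun b => ?_
    change Algebra.TensorProduct.map φ (AlgHom.id A B) (1 ⊗ₜ b) = 1 ⊗ₜ b
    rw [Algebra.TensorProduct.map_tmul, map_one, AlgHom.id_apply]
  rw [← hcomp] at q2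
  have q3 := q1.of_comp q2
  have hmap1 : (I.map (algebraMap A B)).map
      (Algebra.TensorProduct.includeRight : B →ₐ[A] R ⊗[A] B).toRingHom =
      I.map (algebraMap A (R ⊗[A] B)) := by
    rw [Ideal.map_map]
    congr 1
    exact (Algebra.TensorProduct.includeRight : B →ₐ[A] R ⊗[A] B).comp_algebraMap
  rw [hmap1] at q3
  exact q3

theorem map_map_tensor {R R' B : Type u} [CommRing R] [CommRing R'] [Algebra A R] [Algebra A R']
    [CommRing B] [Algebra A B] (φ : R →ₐ[A] R') :
    (I.map (algebraMap A (R ⊗[A] B))).map (Algebra.TensorProduct.map φ (AlgHom.id A B)).toRingHom =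
      I.map (algebraMap A (R' ⊗[A] B)) := by
  rw [Ideal.map_map]
  congr 1
  exact (Algebra.TensorProduct.map φ (AlgHom.id A B)).comp_algebraMap

theorem exists_model (B : Type u) [CommRing B] [Algebra A B] [Algebra.FiniteType A B]
    [Algebra.QuasiFinite A B] (hfin : Module.Finite A (B ⧸ I.map (algebraMap A B))) :
    ∃ (A' : Type u) (_ : CommRing A') (_ : Algebra A A'), IsNbhd A I A' ∧
      ∃ e : A' ⊗[A] B, IsIdempotentElem e ∧ 1 - e ∈ I.map (algebraMap A (A' ⊗[A] B)) ∧
        Module.Finite A' ((A' ⊗[A] B) ⧸ Ideal.span {1 - e}) := by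
  classical
  let H := Hens A (A ⧸ I)
  have hH : Hens2.IsPairHenselization A I H := isPairHenselization_Hens A I
  have hH1 : HenselianRing H (I.map (algebraMap A H)) := hH.1
  have hfinH := finite_quotient_baseChange (H := H) hfin
  obtain ⟨e, he, he1, hefin⟩ := Groth.Agent.Hensel.FinitePart.exists_finite_part
    (I.map (algebraMap A H)) (H ⊗[A] B) inferInstance
  obtain ⟨s, hs⟩ := (Algebra.FiniteType.out : (⊤ : Subalgebra A B).FG)
  choose P hPm hP using fun x : B => exists_monic e he hefin ((1 : H) ⊗ₜ[A] x)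
  obtain ⟨A', _, _, φ, hA', e', he', hQ⟩ := exists_descend hH e s P hPm
  choose P' hP' hP'm using fun x : s => hQ x x.2
  let z₀ : A' ⊗[A] B := e' * e' - e'
  let zx : s → A' ⊗[A] B := fun x => e' * Polynomial.aeval ((1 : A') ⊗ₜ[A] (x : B)) (P' x)
  have hz₀ : Algebra.TensorProduct.map φ (AlgHom.id A B) z₀ = 0 := by
    rw [map_sub, map_mul, he', he.eq, sub_self]
  have hzx : ∀ x, Algebra.TensorProduct.map φ (AlgHom.id A B) (zx x) = 0 := by
    intro x
    rw [map_mul, he', map_aeval, hP' x, hP x]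
  obtain ⟨c, hc, hckill⟩ := exists_kill_tensor hH hA' φ (insert z₀ (Finset.univ.image zx)) (by
    intro z hz
    rw [Finset.mem_insert] at hz
    rcases hz with rfl | hz
    · exact hz₀
    · obtain ⟨x, -, rfl⟩ := Finset.mem_image.1 hz
      exact hzx x)
  have hA'' : IsNbhd A' (I.map (algebraMap A A')) (Localization.Away c) :=
    isNbhd_away_of_sub_one_mem c hc
  have hA3 : IsNbhd A I (Localization.Away c) := hA'.trans hA''
  let ψ : A' →ₐ[A] Localization.Away c := IsScalarTower.toAlgHom A A' (Localization.Away c)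
  let Ψ : A' ⊗[A] B →ₐ[A] Localization.Away c ⊗[A] B :=
    Algebra.TensorProduct.map ψ (AlgHom.id A B)
  have hΨ0 : ∀ z : A' ⊗[A] B, c • z = 0 → Ψ z = 0 := by
    intro z hz
    have hu : IsUnit (algebraMap A' (Localization.Away c) c) :=
      IsLocalization.Away.algebraMap_isUnit c
    have h2 : ∀ (a : Localization.Away c) (w : Localization.Away c ⊗[A] B),
        a • w = (a ⊗ₜ 1) * w := fun a w => Algebra.smul_def a w
    have h1 : Ψ (c • z) = algebraMap A' (Localization.Away c) c • Ψ z := by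
      rw [Algebra.smul_def, map_mul, h2]
      congr 1
    rw [hz, map_zero] at h1
    exact (hu.smul_eq_zero).1 h1.symm
  have hz₀' := hΨ0 _ (hckill z₀ (Finset.mem_insert_self _ _))
  have hzx' : ∀ x, Ψ (zx x) = 0 := fun x => hΨ0 _ (hckill _ (Finset.mem_insert_of_mem
    (Finset.mem_image_of_mem _ (Finset.mem_univ x))))
  have hmem' : 1 - e' ∈ I.map (algebraMap A (A' ⊗[A] B)) := by
    have q := qbh_map (B := B) φ (qbh_of_bijective hA'.bij) (qbh_of_bijective (quot_bijective H hH))
    apply q.1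
    have h1 : (Algebra.TensorProduct.map φ (AlgHom.id A B)).toRingHom (1 - e') = 1 - e := by
      change Algebra.TensorProduct.map φ (AlgHom.id A B) (1 - e') = 1 - e
      rw [map_sub, map_one, he']
    rw [h1, map_map_tensor]
    rwa [Ideal.map_map, ← IsScalarTower.algebraMap_eq] at he1
  have hmem'' : 1 - Ψ e' ∈ I.map (algebraMap A (Localization.Away c ⊗[A] B)) := by
    have h1 := Ideal.mem_map_of_mem Ψ.toRingHom hmem'
    rw [map_map_tensor] at h1
    have h2 : Ψ.toRingHom (1 - e') = 1 - Ψ e' := by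
      change Ψ (1 - e') = _
      rw [map_sub, map_one]
    rwa [h2] at h1
  have hidem : IsIdempotentElem (Ψ e') := by
    have h1 : Ψ (e' * e' - e') = 0 := hz₀'
    rw [map_sub, map_mul, sub_eq_zero] at h1
    exact h1
  refine ⟨Localization.Away c, inferInstance, inferInstance, hA3, Ψ e', hidem, hmem'', ?_⟩
  refine finite_of_monic (Ψ e') _ (adjoin_tensor (R := Localization.Away c) s hs) fun y hy => ?_
  obtain ⟨x, hx, rfl⟩ := Finset.mem_image.1 hy
  refine ⟨(P' ⟨x, hx⟩).map ψ.toRingHom, (hP'm _).map _, ?_⟩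
  rw [← map_aeval, ← map_mul]
  exact hzx' ⟨x, hx⟩

theorem qbh_quot {T : Type u} [CommRing T] (J K : Ideal T) (h : K ≤ J) :
    QBh J (Ideal.Quotient.mk K) := by
  refine ⟨fun a ha => ?_, fun x => ?_⟩
  · obtain ⟨b, hb, hab⟩ := (Ideal.mem_map_iff_of_surjective _ Ideal.Quotient.mk_surjective).1 ha
    rw [Ideal.Quotient.eq] at hab
    have := Ideal.sub_mem _ hb (h hab)
    rwa [sub_sub_cancel] at this
  · obtain ⟨a, rfl⟩ := Ideal.Quotient.mk_surjective x
    exact ⟨a, by simp⟩

theorem QBh.surjective {A A' : Type u} [CommRing A] [CommRing A'] {I : Ideal A} {f : A →+* A'}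
    (h : QBh I f) : Function.Surjective ((Ideal.Quotient.mk (I.map f)).comp f) := by
  intro y
  obtain ⟨x, rfl⟩ := Ideal.Quotient.mk_surjective y
  obtain ⟨a, ha⟩ := h.2 x
  exact ⟨a, ((Ideal.Quotient.eq.2 ha)).symm⟩

theorem QBh.ker_eq {A A' : Type u} [CommRing A] [CommRing A'] {I : Ideal A} {f : A →+* A'}
    (h : QBh I f) : RingHom.ker ((Ideal.Quotient.mk (I.map f)).comp f) = I := by
  ext a
  rw [RingHom.mem_ker, RingHom.comp_apply, Ideal.Quotient.eq_zero_iff_mem]
  exact ⟨h.1 a, Ideal.mem_map_of_mem f⟩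

/-- `A' ⊗[A] B` is étale over `B` if `A'` is étale over `A`. -/
theorem etale_right (A' B : Type u) [CommRing A'] [Algebra A A'] [CommRing B] [Algebra A B]
    [Algebra.Etale A A'] :
    (Algebra.TensorProduct.includeRight : B →ₐ[A] A' ⊗[A] B).toRingHom.Etale := by
  algebraize [(Algebra.TensorProduct.includeRight : B →ₐ[A] A' ⊗[A] B).toRingHom]
  let e : B ⊗[A] A' ≃ₐ[B] A' ⊗[A] B :=
    AlgEquiv.ofRingEquiv (f := (Algebra.TensorProduct.comm A B A').toRingEquiv) fun b => by
      change Algebra.TensorProduct.comm A B A' (b ⊗ₜ 1) = 1 ⊗ₜ b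
      rw [Algebra.TensorProduct.comm_tmul]
  exact Algebra.Etale.of_equiv e

end Main

end K146.FinModel
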