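import Groth.Agent.Hensel.LocalSplit
import Mathlib.AlgebraicGeometry.Morphisms.QuasiFinite
import Mathlib.AlgebraicGeometry.Morphisms.Finite
import Mathlib.AlgebraicGeometry.Morphisms.OpenImmersion
import Mathlib.AlgebraicGeometry.Morphisms.Etale

/-!
# Finite open subschemes of quasi-finite schemes over a henselian local ring
-/

set_option autoImplicit false
universe u

open CategoryTheory CategoryTheory.Limits AlgebraicGeometry Topology

namespace K146.FiniteOpen

theorem exists_open_isFinite {A : Type u} [CommRing A] [HenselianLocalRing A] {T : Scheme.{u}}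
    (f : T ⟶ Spec (CommRingCat.of A)) [LocallyOfFiniteType f] [LocallyQuasiFinite f] (t : T)
    (ht : f t = IsLocalRing.closedPoint A) : ∃ U : T.Opens, t ∈ U ∧ IsFinite (U.ι ≫ f) := by
  obtain ⟨_, ⟨W, hW : IsAffineOpen W, rfl⟩, htW, -⟩ :=
    T.isBasis_affineOpens.exists_subset_of_mem_open (a := t) (by trivial) isOpen_univ
  let φ : CommRingCat.of A ⟶ Γ(T, W) := Spec.preimage (hW.fromSpec ≫ f)
  have hφ : Spec.map φ = hW.fromSpec ≫ f := Spec.map_preimage _
  have hft : φ.hom.FiniteType := by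
    rw [← HasRingHomProperty.Spec_iff (P := @LocallyOfFiniteType), hφ]
    infer_instance
  have hqf : φ.hom.QuasiFinite := by
    rw [← HasRingHomProperty.Spec_iff (P := @LocallyQuasiFinite), hφ]
    infer_instance
  obtain ⟨q, hq⟩ : ∃ q : Spec Γ(T, W), hW.fromSpec q = t := by
    have : t ∈ Set.range hW.fromSpec := by
      rw [hW.range_fromSpec]
      exact htW
    exact this
  let _ : Algebra A Γ(T, W) := φ.hom.toAlgebra
  have : Algebra.FiniteType A Γ(T, W) := hft
  have : Algebra.QuasiFinite A Γ(T, W) := hqf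
  have hlies : q.asIdeal.LiesOver (IsLocalRing.maximalIdeal A) := by
    have h1 : Spec.map φ q = IsLocalRing.closedPoint A := by
      rw [hφ, Scheme.Hom.comp_apply, hq, ht]
    exact ⟨(congrArg PrimeSpectrum.asIdeal h1).symm⟩
  obtain ⟨e, he, heq, hfin, -⟩ :=
    Groth.Agent.Hensel.LocalSplit.exists_isIdempotentElem_of_quasiFiniteAt (R := A)
      (S := Γ(T, W)) q.asIdeal
  let ρ : Γ(T, W) ⟶ CommRingCat.of (Γ(T, W) ⧸ Ideal.span {1 - e}) :=
    CommRingCat.ofHom (Ideal.Quotient.mk (Ideal.span {1 - e}))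
  have hρs : Function.Surjective ρ.hom := Ideal.Quotient.mk_surjective
  have hρ : IsOpenImmersion (Spec.map ρ) :=
    (isOpenImmersion_SpecMap_iff_of_surjective ρ hρs).mpr ⟨1 - e, he.one_sub, Ideal.mk_ker⟩
  let ψ := Spec.map ρ ≫ hW.fromSpec
  have hψf : ψ ≫ f = Spec.map (φ ≫ ρ) := by
    rw [Spec.map_comp, hφ, Category.assoc]
  have hfin' : IsFinite (ψ ≫ f) := by
    rw [hψf, IsFinite.SpecMap_iff]
    exact hfin
  refine ⟨ψ.opensRange, ?_, ?_⟩
  · have h1 : q ∈ Set.range (Spec.map ρ) := by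
      change q ∈ Set.range (PrimeSpectrum.comap (Ideal.Quotient.mk (Ideal.span {1 - e})))
      rw [_root_.range_comap_of_surjective _ _ Ideal.Quotient.mk_surjective, Ideal.mk_ker]
      change Ideal.span {1 - e} ≤ q.asIdeal
      rw [Ideal.span_singleton_le_iff_mem]
      exact Groth.Agent.Hensel.LocalSplit.one_sub_mem_of_notMem he heq
    obtain ⟨r, hr⟩ := h1
    exact ⟨r, by rw [Scheme.Hom.comp_apply, hr, hq]⟩
  · rw [← ψ.isoOpensRange_inv_comp, Category.assoc]
    infer_instance

end K146.FiniteOpen
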