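import Groth.Agent.Hensel.K146.Approx
import Groth.Agent.Ega41.PowEval
import Groth.Agent.S0543

/-!
# Retractions realizing a factorization of the parameter of a node
-/

set_option autoImplicit false
universe u

open IsLocalRing

namespace K146.NodeRetract

open MvPowerSeries in
theorem exists_retraction (R : Type u) [CommRing R] [IsNoetherianRing R] [HenselianLocalRing R]
    (hG : CAlg.IsGRing R)
    [IsDomain (AdicCompletion (maximalIdeal R) R)]
    [UniqueFactorizationMonoid (AdicCompletion (maximalIdeal R) R)]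
    (Δ t₁ t₂ : R) (hΔ : Δ ≠ 0) (ht₁ : t₁ ∈ maximalIdeal R) (ht₂ : t₂ ∈ maximalIdeal R)
    (ht : t₁ * t₂ = Δ)
    (C : Type u) [CommRing C] [IsLocalRing C] [Algebra R C]
    [Algebra.EssFiniteType R C]
    (ψ : AdicCompletion (maximalIdeal C) C ≃+*
      (MvPowerSeries (Fin 2) (AdicCompletion (maximalIdeal R) R) ⧸
        Ideal.span {(X 0 * X 1 - MvPowerSeries.C (algebraMap R (AdicCompletion (maximalIdeal R) R) Δ) :
          MvPowerSeries (Fin 2) (AdicCompletion (maximalIdeal R) R))}))
    (hψ : ψ.toRingHom.comp ((algebraMap C (AdicCompletion (maximalIdeal C) C)).comp (algebraMap R C)) =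
      (Ideal.Quotient.mk _).comp ((MvPowerSeries.C : AdicCompletion (maximalIdeal R) R →+*
        MvPowerSeries (Fin 2) (AdicCompletion (maximalIdeal R) R)).comp
          (algebraMap R (AdicCompletion (maximalIdeal R) R)))) :
    ∃ (g : C →ₐ[R] R) (ĝ : AdicCompletion (maximalIdeal C) C →+* AdicCompletion (maximalIdeal R) R),
      ĝ.comp (algebraMap C (AdicCompletion (maximalIdeal C) C)) =
        (algebraMap R (AdicCompletion (maximalIdeal R) R)).comp g.toRingHom ∧
      Ideal.span {ĝ (ψ.symm (Ideal.Quotient.mk _ (X 0)))} =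
        Ideal.span {algebraMap R (AdicCompletion (maximalIdeal R) R) t₁} ∧
      Ideal.span {ĝ (ψ.symm (Ideal.Quotient.mk _ (X 1)))} =
        Ideal.span {algebraMap R (AdicCompletion (maximalIdeal R) R) t₂} := by
  let Rh := AdicCompletion (maximalIdeal R) R
  let Ch := AdicCompletion (maximalIdeal C) C
  have hRh : IsNoetherianRing Rh := Groth.Agent.S0543.result R (maximalIdeal R)
  have hC : IsNoetherianRing C := Algebra.EssFiniteType.isNoetherianRing R C
  let T : Fin 2 → Rh := ![algebraMap R Rh t₁, algebraMap R Rh t₂]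
  have hmR : maximalIdeal Rh = (maximalIdeal R).map (algebraMap R Rh) :=
    AdicCompletion.maximalIdeal_eq_map
  have hT : ∀ i, T i ∈ maximalIdeal Rh := by
    intro i
    rw [hmR]
    fin_cases i
    · exact Ideal.mem_map_of_mem _ ht₁
    · exact Ideal.mem_map_of_mem _ ht₂
  let ev : MvPowerSeries (Fin 2) Rh →ₐ[Rh] Rh :=
    Groth.Agent.Ega41.PowEval.powEval (maximalIdeal Rh) T hT
  have hev0 : ev (X 0) = algebraMap R Rh t₁ := Groth.Agent.Ega41.PowEval.powEval_X _ T hT 0
  have hev1 : ev (X 1) = algebraMap R Rh t₂ := Groth.Agent.Ega41.PowEval.powEval_X _ T hT 1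
  have hevC : ∀ r : Rh, ev (MvPowerSeries.C r) = r := fun r =>
    Groth.Agent.Ega41.PowEval.powEval_C _ T hT r
  let Q : Ideal (MvPowerSeries (Fin 2) Rh) :=
    Ideal.span {(X 0 * X 1 - MvPowerSeries.C (algebraMap R Rh Δ) : MvPowerSeries (Fin 2) Rh)}
  let evQ : (MvPowerSeries (Fin 2) Rh ⧸ Q) →+* Rh := Ideal.Quotient.lift Q ev.toRingHom (by
    intro a ha
    have h1 : Q ≤ RingHom.ker ev.toRingHom := by
      rw [Ideal.span_singleton_le_iff_mem, RingHom.mem_ker]
      change ev _ = 0
      rw [map_sub, map_mul, hev0, hev1, hevC, ← map_mul, ht, sub_self]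
    exact h1 ha)
  have hevQ : ∀ p, evQ (Ideal.Quotient.mk Q p) = ev p := fun p => rfl
  let g₀ : Ch →+* Rh := evQ.comp ψ.toRingHom
  have hg₀R : ∀ r : R, g₀ (algebraMap C Ch (algebraMap R C r)) = algebraMap R Rh r := by
    intro r
    have h1 := RingHom.congr_fun hψ r
    change evQ (ψ (algebraMap C Ch (algebraMap R C r))) = _
    have h2 : ψ (algebraMap C Ch (algebraMap R C r)) =
      Ideal.Quotient.mk Q (MvPowerSeries.C (algebraMap R Rh r)) := h1
    rw [h2, hevQ, hevC]
  let φ : C →ₐ[R] Rh := { g₀.comp (algebraMap C Ch) with commutes' := hg₀R }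
  have hφ : ∀ c, φ c = g₀ (algebraMap C Ch c) := fun c => rfl
  have hD : algebraMap R Rh Δ ≠ 0 := by
    have hinj : Function.Injective (algebraMap R Rh) := by
      rw [injective_iff_map_eq_zero]
      intro x hx
      have h1 : x ∈ (⊥ : Ideal R) := by
        refine Cpl.mem_of_forall_mem_sup _ _ fun N => ?_
        have h2 := congrArg (AdicCompletion.evalₐ (maximalIdeal R) N) hx
        rw [map_zero, AdicCompletion.algebraMap_apply] at h2
        simp only [AdicCompletion.evalₐ_of] at h2
        rw [bot_sup_eq]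
        exact Ideal.Quotient.eq_zero_iff_mem.mp h2
      exact h1
    exact fun h => hΔ (hinj (h.trans (map_zero _).symm))
  obtain ⟨n, hn⟩ := Cpl.exists_associated (algebraMap R Rh Δ) (algebraMap R Rh t₁) hD
  obtain ⟨g, hg⟩ := Approx.exists_approx_essFiniteType hG C φ n
  have hgm := Approx.map_maximalIdeal_le C g
  obtain ⟨gh, hgh⟩ := Cpl.exists_extend (maximalIdeal Rh) ((algebraMap R Rh).comp g.toRingHom) (by
    rw [← Ideal.map_map, hmR]
    exact Ideal.map_mono hgm)
  have hghC : ∀ c, gh (algebraMap C Ch c) = algebraMap R Rh (g c) := RingHom.congr_fun hgh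
  -- both maps send `M ^ n Ch` into `m ^ n Rh`
  have hM₀ : (maximalIdeal C).map (g₀.comp (algebraMap C Ch)) ≤ maximalIdeal Rh := by
    rw [Ideal.map_le_iff_le_comap]
    have hcomap : (maximalIdeal Rh).comap (g₀.comp (algebraMap C Ch)) = maximalIdeal C := by
      refine IsLocalRing.eq_maximalIdeal ?_
      have hs : Function.Surjective ((residue Rh).comp (g₀.comp (algebraMap C Ch))) := by
        intro y
        obtain ⟨x, rfl⟩ := residue_surjective y
        obtain ⟨r, hr⟩ := Cpl.exists_sub_mem x 1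
        refine ⟨algebraMap R C r, ?_⟩
        change residue Rh (g₀ (algebraMap C Ch (algebraMap R C r))) = _
        rw [hg₀R, ← sub_eq_zero, ← map_sub, residue_eq_zero_iff, hmR]
        rw [pow_one] at hr
        rw [← neg_sub]
        exact neg_mem hr
      have h2 : RingHom.ker ((residue Rh).comp (g₀.comp (algebraMap C Ch))) =
          (maximalIdeal Rh).comap (g₀.comp (algebraMap C Ch)) := by
        rw [← RingHom.comap_ker, IsLocalRing.ker_residue]
      rw [← h2]
      exact RingHom.ker_isMaximal_of_surjective _ hs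
    exact hcomap.ge
  have key : ∀ (h : Ch →+* Rh), (maximalIdeal C).map (h.comp (algebraMap C Ch)) ≤ maximalIdeal Rh →
      ∀ y ∈ (maximalIdeal C ^ n).map (algebraMap C Ch), h y ∈ (maximalIdeal R ^ n).map (algebraMap R Rh) := by
    intro h hh y hy
    have h1 := Ideal.mem_map_of_mem h hy
    rw [Ideal.map_map, Ideal.map_pow] at h1
    rw [Ideal.map_pow, ← hmR]
    exact Ideal.pow_right_mono hh n h1
  have hclose : ∀ x : Ch, g₀ x - gh x ∈ (maximalIdeal R ^ n).map (algebraMap R Rh) := by
    intro x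
    obtain ⟨c, hc⟩ := Cpl.exists_sub_mem x n
    have h1 := key g₀ hM₀ _ hc
    have h2 := key gh (by
      rw [hgh, ← Ideal.map_map, hmR]
      exact Ideal.map_mono hgm) _ hc
    have h3 := hg c
    rw [hφ] at h3
    rw [map_sub] at h1 h2
    rw [hghC] at h2
    have h4 : g₀ x - gh x = (g₀ x - g₀ (algebraMap C Ch c)) - (gh x - algebraMap R Rh (g c)) +
        (g₀ (algebraMap C Ch c) - algebraMap R Rh (g c)) := by ring
    rw [h4]
    exact Ideal.add_mem _ (Ideal.sub_mem _ h1 h2) h3
  let a : Rh := gh (ψ.symm (Ideal.Quotient.mk Q (X 0)))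
  let b : Rh := gh (ψ.symm (Ideal.Quotient.mk Q (X 1)))
  have hab : a * b = algebraMap R Rh Δ := by
    have h1 : ψ.symm (Ideal.Quotient.mk Q (X 0)) * ψ.symm (Ideal.Quotient.mk Q (X 1)) =
        algebraMap C Ch (algebraMap R C Δ) := by
      rw [← map_mul, ← map_mul, RingEquiv.symm_apply_eq]
      have h2 : ψ (algebraMap C Ch (algebraMap R C Δ)) =
        Ideal.Quotient.mk Q (MvPowerSeries.C (algebraMap R Rh Δ)) := RingHom.congr_fun hψ Δ
      rw [h2, Ideal.Quotient.eq]
      exact Ideal.mem_span_singleton_self _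
    change gh _ * gh _ = _
    rw [← map_mul, h1, hghC]
    congr 1
    exact g.commutes Δ
  have hat : a - algebraMap R Rh t₁ ∈ maximalIdeal Rh ^ n := by
    have h1 := hclose (ψ.symm (Ideal.Quotient.mk Q (X 0)))
    have h2 : g₀ (ψ.symm (Ideal.Quotient.mk Q (X 0))) = algebraMap R Rh t₁ := by
      change evQ (ψ (ψ.symm (Ideal.Quotient.mk Q (X 0)))) = _
      rw [RingEquiv.apply_symm_apply, hevQ, hev0]
    rw [h2] at h1
    rw [hmR, ← Ideal.map_pow, ← neg_sub]
    exact neg_mem h1
  have hassoc : Associated a (algebraMap R Rh t₁) := hn a ⟨b, hab.symm⟩ hat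
  have ht₁0 : algebraMap R Rh t₁ ≠ 0 := by
    intro h0
    apply hD
    rw [← ht, map_mul, h0, zero_mul]
  have hassoc' : Associated b (algebraMap R Rh t₂) := by
    obtain ⟨u, hu⟩ := hassoc
    have h1 : a * b = a * (u * algebraMap R Rh t₂) := by
      rw [hab, ← ht, map_mul, ← hu]
      ring
    have ha0 : a ≠ 0 := by
      intro h0
      rw [h0, zero_mul] at hu
      exact ht₁0 hu.symm
    have h2 := mul_left_cancel₀ ha0 h1
    refine ⟨u⁻¹, ?_⟩
    rw [h2, mul_comm, ← mul_assoc, Units.inv_mul, one_mul]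
  exact ⟨g, gh, hgh, Ideal.span_singleton_eq_span_singleton.mpr hassoc,
    Ideal.span_singleton_eq_span_singleton.mpr hassoc'⟩

end K146.NodeRetract
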