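import Groth.Agent.Hensel.K146.ASCoh
import Mathlib.Topology.Algebra.Group.Basic
import Mathlib.Topology.Algebra.OpenSubgroup
import Mathlib.Topology.Algebra.Group.ClosedSubgroup
import Mathlib.GroupTheory.GroupAction.ConjAct
import Mathlib.GroupTheory.GroupAction.Quotient
import Mathlib.Algebra.Algebra.ZMod

/-!
# Embedding problems with elementary abelian `p`-kernel in characteristic `p`

`exists_lift`: a compact group `H` acts with open stabilizers on an Artin–Schreier closed field `Ω` of characteristic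
`p`; `φ : H → E` is a homomorphism with open kernel which maps the kernel of the action into an elementary abelian normal
`p`-subgroup `V` of `E`. Then there is a homomorphism `ψ ≡ φ mod V` with open kernel which is trivial on the kernel of the
action.
-/

set_option autoImplicit false
set_option linter.unusedSectionVars false

namespace K146.PEmbed

section Faithful

variable {Ω : Type*} [Field Ω] {H : Type*} [Group H] [MulSemiringAction H Ω]

/-- The elements fixing a finite stable set. -/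
def fixOf (S : Set Ω) : Subgroup H where
  carrier := {h | ∀ x ∈ S, h • x = x}
  one_mem' := fun x _ => one_smul _ x
  mul_mem' := fun {a b} ha hb x hx => by rw [mul_smul, hb x hx, ha x hx]
  inv_mem' := fun {a} ha x hx => by rw [inv_smul_eq_iff, ha x hx]

lemma mem_fixOf {S : Set Ω} {h : H} : h ∈ (fixOf S : Subgroup H) ↔ ∀ x ∈ S, h • x = x := Iff.rfl

lemma normal_fixOf {S : Set Ω} (hS : ∀ h : H, ∀ x ∈ S, h • x ∈ S) : (fixOf S : Subgroup H).Normal := by
  refine ⟨fun n hn g x hx => ?_⟩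
  rw [mul_smul, mul_smul, hn _ (hS g⁻¹ x hx), smul_inv_smul]

/-- An element of trace one. -/
theorem exists_trace_one {S : Set Ω} (N : Subgroup H) [N.Normal] [Fintype (H ⧸ N)]
    (hN : ∀ h : H, h ∈ N ↔ ∀ x ∈ S, h • x = x) :
    ∃ θ : Ω, (∀ n ∈ N, n • θ = θ) ∧ ∑ q : H ⧸ N, q.out • θ = 1 := by
  classical
  let F : Submonoid Ω :=
    { carrier := {x | ∀ n ∈ N, n • x = x}
      one_mem' := fun n _ => smul_one n
      mul_mem' := fun {a b} ha hb n hn => by rw [smul_mul', ha n hn, hb n hn] }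
  let χ : H → (F →* Ω) := fun h => (MulSemiringAction.toRingHom H Ω h).toMonoidHom.comp F.subtype
  have hχ : ∀ h (x : F), χ h x = h • (x : Ω) := fun h x => rfl
  have hinj : Function.Injective fun q : H ⧸ N => χ q.out := by
    intro q q' hqq'
    have h1 : (q'.out)⁻¹ * q.out ∈ N := by
      rw [hN]
      intro x hx
      have hxF : x ∈ F := fun n hn => (hN n).1 hn x hx
      have h2 := DFunLike.congr_fun hqq' ⟨x, hxF⟩
      change χ q.out ⟨x, hxF⟩ = χ q'.out ⟨x, hxF⟩ at h2
      rw [hχ, hχ] at h2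
      rw [mul_smul, inv_smul_eq_iff]
      exact h2
    have h3 : (QuotientGroup.mk q'.out : H ⧸ N) = QuotientGroup.mk q.out := QuotientGroup.eq.2 h1
    rw [QuotientGroup.out_eq', QuotientGroup.out_eq'] at h3
    exact h3.symm
  have hli := (linearIndependent_monoidHom F Ω).comp _ hinj
  have hex : ∃ x : F, ∑ q : H ⧸ N, q.out • (x : Ω) ≠ 0 := by
    by_contra hcon
    push Not at hcon
    have h1 := Fintype.linearIndependent_iff.1 hli (fun _ => 1) (by
      ext x
      rw [Finset.sum_apply]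
      simp only [one_smul]
      exact hcon x)
    exact one_ne_zero (h1 1)
  obtain ⟨x, hx⟩ := hex
  set t : Ω := ∑ q : H ⧸ N, q.out • (x : Ω) with ht
  have htinv : ∀ h : H, h • t = t := by
    intro h
    rw [ht, Finset.smul_sum]
    simp only [← mul_smul]
    exact sum_out N (fun y => y • (x : Ω)) (fun y n hn => by
      rw [mul_smul, x.2 n hn]) h
  have htinv' : ∀ h : H, h • t⁻¹ = t⁻¹ := fun h => by
    have h1 := map_inv₀ (MulSemiringAction.toRingHom H Ω h) t
    change h • t⁻¹ = (h • t)⁻¹ at h1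
    rw [h1, htinv h]
  refine ⟨x * t⁻¹, fun n hn => ?_, ?_⟩
  · rw [smul_mul', x.2 n hn, htinv']
  · simp only [smul_mul', htinv']
    rw [← Finset.sum_mul]
    exact mul_inv_cancel₀ hx

end Faithful

section Lift

variable {p : ℕ} [Fact p.Prime] {Ω : Type*} [Field Ω] [CharP Ω p]
  {H : Type*} [Group H] [TopologicalSpace H] [IsTopologicalGroup H] [CompactSpace H]
  [MulSemiringAction H Ω]

lemma finite_orbit (hstab : ∀ x : Ω, IsOpen (MulAction.stabilizer H x : Set H)) (x : Ω) :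
    (MulAction.orbit H x).Finite := by
  have : Finite (H ⧸ MulAction.stabilizer H x) := (MulAction.stabilizer H x).quotient_finite_of_isOpen (hstab x)
  have : Finite (MulAction.orbit H x) :=
    Finite.of_equiv _ (MulAction.orbitEquivQuotientStabilizer H x).symm
  exact Set.toFinite _

/-- A finite stable set such that the elements fixing it lie in a given open subgroup containing the kernel. -/
theorem exists_stable (hstab : ∀ x : Ω, IsOpen (MulAction.stabilizer H x : Set H)) (U : Subgroup H)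
    (hU : IsOpen (U : Set H)) (hJ : ∀ h : H, (∀ x : Ω, h • x = x) → h ∈ U) :
    ∃ S : Set Ω, S.Finite ∧ (∀ h : H, ∀ x ∈ S, h • x ∈ S) ∧ fixOf S ≤ U := by
  classical
  have hcl : ∀ x : Ω, IsClosed ((MulAction.stabilizer H x : Set H) ∩ (U : Set H)ᶜ) := fun x =>
    ((MulAction.stabilizer H x).isClosed_of_isOpen (hstab x)).inter hU.isClosed_compl
  have hempty : ⋂ x : Ω, ((MulAction.stabilizer H x : Set H) ∩ (U : Set H)ᶜ) = ∅ := by
    ext h
    simp only [Set.mem_iInter, Set.mem_inter_iff, Set.mem_compl_iff, Set.mem_empty_iff_false,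
      iff_false, not_forall]
    by_contra hcon
    push Not at hcon
    exact (hcon 0).2 (hJ h fun x => (hcon x).1)
  obtain ⟨T, hT⟩ := (isCompact_univ (X := H)).elim_finite_subfamily_closed _ hcl
    (by rw [hempty, Set.inter_empty])
  refine ⟨⋃ x ∈ T, MulAction.orbit H x, T.finite_toSet.biUnion fun x _ => finite_orbit hstab x,
    ?_, ?_⟩
  · intro h x hx
    simp only [Set.mem_iUnion] at hx ⊢
    obtain ⟨y, hy, hxy⟩ := hx
    exact ⟨y, hy, MulAction.mem_orbit_of_mem_orbit h hxy⟩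
  · intro h hh
    by_contra hcon
    have h1 : h ∈ Set.univ ∩ ⋂ i ∈ T, ((MulAction.stabilizer H i : Set H) ∩ (U : Set H)ᶜ) := by
      refine ⟨trivial, ?_⟩
      simp only [Set.mem_iInter]
      intro x hx
      refine ⟨hh x ?_, hcon⟩
      simp only [Set.mem_iUnion]
      exact ⟨x, hx, MulAction.mem_orbit_self x⟩
    rw [hT] at h1
    exact h1


theorem isOpen_fixOf (hstab : ∀ x : Ω, IsOpen (MulAction.stabilizer H x : Set H)) {S : Set Ω}
    (hS : S.Finite) : IsOpen ((fixOf S : Subgroup H) : Set H) := by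
  have h1 : ((fixOf S : Subgroup H) : Set H) = ⋂ x ∈ S, (MulAction.stabilizer H x : Set H) := by
    ext h
    simp only [Set.mem_iInter]
    rfl
  rw [h1]
  exact hS.isOpen_biInter fun x _ => hstab x

theorem exists_lift_aux (hstab : ∀ x : Ω, IsOpen (MulAction.stabilizer H x : Set H))
    (hAS : ∀ a : Ω, ∃ x : Ω, x ^ p - x = a) {E : Type*} [Group E] {M : Type*} [AddCommGroup M]
    [Module (ZMod p) M] (ι : M → E) (hadd : ∀ x y, ι (x + y) = ι x * ι y)
    (hinj : Function.Injective ι) (hnorm : ∀ (e : E) (x : M), ∃ y, ι y = e * ι x * e⁻¹)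
    (φ : H →* E) (hφ : IsOpen (φ.ker : Set H)) (hJ : ∀ h : H, (∀ x : Ω, h • x = x) → ∃ x, ι x = φ h) :
    ∃ ψ : H →* E, IsOpen (ψ.ker : Set H) ∧ (∀ h, ∃ x, ι x = (φ h)⁻¹ * ψ h) ∧
      ∀ h : H, (∀ x : Ω, h • x = x) → ψ h = 1 := by
  classical
  let _ : Algebra (ZMod p) Ω := ZMod.algebra Ω p
  have h0 : ι 0 = 1 := by
    have := hadd 0 0
    rw [add_zero] at this
    exact (left_eq_mul.1 this)
  have hneg : ∀ x, ι (-x) = (ι x)⁻¹ := fun x => by
    rw [eq_inv_iff_mul_eq_one, ← hadd, neg_add_cancel, h0]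
  have hsub : ∀ x y, ι (x - y) = ι x * (ι y)⁻¹ := fun x y => by rw [sub_eq_add_neg, hadd, hneg]
  have hcomm : ∀ x y, ι x * ι y = ι y * ι x := fun x y => by rw [← hadd, add_comm, hadd]
  let V : Subgroup E :=
    { carrier := Set.range ι
      one_mem' := ⟨0, h0⟩
      mul_mem' := by rintro _ _ ⟨x, rfl⟩ ⟨y, rfl⟩; exact ⟨x + y, hadd x y⟩
      inv_mem' := by rintro _ ⟨x, rfl⟩; exact ⟨-x, hneg x⟩ }
  have hV : ∀ e, e ∈ V ↔ ∃ x, ι x = e := fun e => Iff.rfl
  have hU : IsOpen ((V.comap φ : Subgroup H) : Set H) :=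
    Subgroup.isOpen_mono (H₁ := φ.ker) (fun x hx => by
      rw [Subgroup.mem_comap, (MonoidHom.mem_ker).1 hx]
      exact one_mem _) hφ
  obtain ⟨S, hSf, hS, hSU⟩ := exists_stable hstab (V.comap φ) hU hJ
  obtain ⟨N, hN⟩ : ∃ N : Subgroup H, N = fixOf S := ⟨_, rfl⟩
  have hNn : N.Normal := hN ▸ normal_fixOf hS
  have hNo : IsOpen (N : Set H) := hN ▸ isOpen_fixOf hstab hSf
  have hNV : ∀ n ∈ N, ∃ x, ι x = φ n := fun n hn => hSU (hN ▸ hn)
  have hfin : Finite (H ⧸ N) := N.quotient_finite_of_isOpen hNo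
  let _ : Fintype (H ⧸ N) := Fintype.ofFinite _
  obtain ⟨θ, hθ, hTr⟩ := exists_trace_one N (S := S) (fun h => by rw [hN]; rfl)
  choose cj hcj using hnorm
  let A : H →* Module.End (ZMod p) M :=
    { toFun := fun h => (AddMonoidHom.mk' (cj (φ h)) (fun x y => hinj (by
        rw [hcj, hadd, hadd, hcj, hcj]; group))).toZModLinearMap p
      map_one' := by
        ext x
        apply hinj
        change ι (cj (φ 1) x) = ι x
        rw [hcj, map_one, one_mul, inv_one, mul_one]
      map_mul' := fun a b => by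
        ext x
        apply hinj
        change ι (cj (φ (a * b)) x) = ι (cj (φ a) (cj (φ b) x))
        rw [hcj, hcj, hcj, map_mul, mul_inv_rev]
        group }
  have hA : ∀ (h : H) (x : M), ι (A h x) = φ h * ι x * (φ h)⁻¹ := fun h x => hcj _ _
  let r : H → H := fun h => (QuotientGroup.mk h : H ⧸ N).out * ((QuotientGroup.mk 1 : H ⧸ N).out)⁻¹
  have hr1 : ∀ h, (QuotientGroup.mk (r h) : H ⧸ N) = QuotientGroup.mk h := by
    intro h
    change (QuotientGroup.mk (_ * _⁻¹) : H ⧸ N) = _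
    rw [QuotientGroup.mk_mul, QuotientGroup.mk_inv, QuotientGroup.out_eq', QuotientGroup.out_eq',
      QuotientGroup.mk_one, inv_one, mul_one]
  have hr2 : ∀ h h', (QuotientGroup.mk h : H ⧸ N) = QuotientGroup.mk h' → r h = r h' := by
    intro h h' hh
    change (QuotientGroup.mk h : H ⧸ N).out * _ = (QuotientGroup.mk h' : H ⧸ N).out * _
    rw [hh]
  have hmk : ∀ h, ∀ n ∈ N, (QuotientGroup.mk (h * n) : H ⧸ N) = QuotientGroup.mk h := fun h n hn =>
    QuotientGroup.mk_mul_of_mem h hn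
  let s : H → E := fun h => φ (r h)
  have hs0 : ∀ n ∈ N, s n = 1 := by
    intro n hn
    have h1 : r n = r 1 := hr2 _ _ (by have := hmk 1 n hn; rwa [one_mul] at this)
    have h2 : r 1 = 1 := mul_inv_cancel _
    change φ (r n) = 1
    rw [h1, h2, map_one]
  have hsN : ∀ h, ∀ n ∈ N, s (h * n) = s h := fun h n hn =>
    congrArg φ (hr2 _ _ (hmk h n hn))
  have hsN' : ∀ h h', ∀ n ∈ N, s (h * n * h') = s (h * h') := fun h h' n hn => by
    have h1 : h * n * h' = h * h' * (h'⁻¹ * n * h') := by group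
    rw [h1]
    refine hsN _ _ ?_
    have := hNn.conj_mem n hn h'⁻¹
    rwa [inv_inv] at this
  have hsφ : ∀ h, ∃ x, ι x = (φ h)⁻¹ * s h := by
    intro h
    have h1 : h⁻¹ * r h ∈ N := QuotientGroup.eq.1 (hr1 h).symm
    obtain ⟨x, hx⟩ := hNV _ h1
    exact ⟨x, by rw [hx, map_mul, map_inv]⟩
  have hAs : ∀ (h : H) (x : M), ι (A h x) = s h * ι x * (s h)⁻¹ := by
    intro h x
    obtain ⟨y, hy⟩ := hsφ h
    have h1 : s h = φ h * ι y := by rw [hy, mul_inv_cancel_left]
    rw [hA, h1, mul_inv_rev]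
    have h2 : φ h * ι y * ι x * ((ι y)⁻¹ * (φ h)⁻¹) = φ h * (ι y * ι x * (ι y)⁻¹) * (φ h)⁻¹ := by
      group
    rw [h2, hcomm y x, mul_inv_cancel_right]
  have hcV : ∀ h h', ∃ x, ι x = s h * s h' * (s (h * h'))⁻¹ := by
    intro h h'
    have h1 : r h * r h' * (r (h * h'))⁻¹ ∈ N := by
      rw [← QuotientGroup.eq_one_iff, QuotientGroup.mk_mul, QuotientGroup.mk_mul, QuotientGroup.mk_inv,
        hr1, hr1, hr1, QuotientGroup.mk_mul, mul_inv_cancel]
    obtain ⟨x, hx⟩ := hNV _ h1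
    exact ⟨x, by rw [hx, map_mul, map_mul, map_inv]⟩
  choose c hc using hcV
  have hA1 : ∀ n ∈ N, A n = 1 := by
    intro n hn
    ext x
    apply hinj
    rw [hAs, hs0 n hn, one_mul, inv_one, mul_one]
    rfl
  obtain ⟨b, hb, T, hT⟩ := exists_cochain (p := p) (Ω := Ω) A hAS N hA1 c (by
      intro x y z
      apply hinj
      have h1 : ∀ u v w : M, ι u * (ι v)⁻¹ * ι w = ι u * ι w * (ι v)⁻¹ := by
        intro u v w
        rw [← hneg, mul_assoc, hcomm (-v) w, ← mul_assoc]
      rw [hadd, hsub, h1, hAs, hc, hc, hc, hc, mul_assoc x y z]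
      group)
    (fun x y n hn => hinj (by rw [hc, hc, ← mul_assoc, hsN _ n hn, hsN _ n hn]))
    (fun x y n hn => hinj (by rw [hc, hc, hsN _ n hn, hsN' _ _ n hn]))
    (fun n hn y => hinj (by
      have h1 := hsN' 1 y n hn
      rw [one_mul, one_mul] at h1
      rw [hc, hs0 n hn, h1, one_mul, mul_inv_cancel, h0]))
    θ hθ hTr
  let ψ : H →* E := MonoidHom.mk' (fun h => (ι (b h))⁻¹ * s h) (fun h h' => by
    have h1 := congrArg ι (hb h h')
    rw [hc, hadd, hsub, hAs] at h1
    have h2 : s h * s h' = s h * ι (b h') * (s h)⁻¹ * (ι (b (h * h')))⁻¹ * ι (b h) * s (h * h') := by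
      rw [← h1, inv_mul_cancel_right]
    have h3 : (ι (b h))⁻¹ * s h * ((ι (b h'))⁻¹ * s h') =
      (ι (b h))⁻¹ * (s h * (ι (b h'))⁻¹ * (s h)⁻¹) * (s h * s h') := by group
    rw [h3, h2]
    have h4 : (ι (b h))⁻¹ * (s h * (ι (b h'))⁻¹ * (s h)⁻¹) *
      (s h * ι (b h') * (s h)⁻¹ * (ι (b (h * h')))⁻¹ * ι (b h) * s (h * h')) =
      (ι (b h))⁻¹ * (ι (b (h * h')))⁻¹ * ι (b h) * s (h * h') := by group
    rw [h4, ← hneg (b (h * h')), mul_assoc (ι (b h))⁻¹, hcomm, inv_mul_cancel_left])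
  have hψU : ∀ h ∈ N, (∀ x ∈ T, h • x = x) → ψ h = 1 := by
    intro h hh hx
    change (ι (b h))⁻¹ * s h = 1
    rw [hT h hh hx, h0, hs0 h hh, inv_one, one_mul]
  refine ⟨ψ, ?_, ?_, ?_⟩
  · refine Subgroup.isOpen_mono (H₁ := N ⊓ fixOf (T : Set Ω)) (fun h hh => ?_) ?_
    · exact (MonoidHom.mem_ker).2 (hψU h hh.1 hh.2)
    · exact hNo.inter (isOpen_fixOf hstab T.finite_toSet)
  · intro h
    obtain ⟨x, hx⟩ := hsφ h
    obtain ⟨y, hy⟩ : ∃ y, ι y = (φ h)⁻¹ * (ι (b h))⁻¹ * φ h := by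
      refine ⟨cj (φ h)⁻¹ (- b h), ?_⟩
      rw [hcj, hneg, inv_inv]
    refine ⟨y + x, ?_⟩
    rw [hadd, hx, hy]
    change _ = (φ h)⁻¹ * ((ι (b h))⁻¹ * s h)
    group
  · intro h hh
    refine hψU h ?_ (fun x _ => hh x)
    rw [hN]
    exact fun x _ => hh x

end Lift

end K146.PEmbed
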