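import Groth.Agent.Hensel.K146.PEmbed
import Mathlib.GroupTheory.Sylow
import Mathlib.GroupTheory.IndexNormal
import Mathlib.GroupTheory.SpecificGroups.Cyclic
import Mathlib.Topology.Algebra.ClopenNhdofOne
import Mathlib.Topology.Algebra.Group.ClosedSubgroup

/-!
# Splitting off pro-`p` kernels

* `exists_hom_ne_one`: a nontrivial finite `p`-group has a nontrivial homomorphism to `ℤ/p`.
* `exists_proper`: if the kernel `J` of the action of `H` on an Artin–Schreier closed field of characteristic `p` is a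
  nontrivial pro-`p` group, then there is a proper closed subgroup `H'` of `H` with `H' J = H`.
* `exists_minimal`: minimal closed supplements.
-/

set_option autoImplicit false
set_option linter.unusedSectionVars false

namespace K146.PEmbed

theorem exists_hom_ne_one {p : ℕ} [Fact p.Prime] {R : Type*} [Group R] [Finite R] [Nontrivial R]
    (hR : IsPGroup p R) : ∃ (f : R →* Multiplicative (ZMod p)) (r : R), f r ≠ 1 := by
  have hp : p.Prime := Fact.out
  obtain ⟨n, hn⟩ := IsPGroup.iff_card.1 hR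
  have hn0 : n ≠ 0 := by
    rintro rfl
    rw [pow_zero] at hn
    exact (Finite.one_lt_card (α := R)).ne' hn
  obtain ⟨m, rfl⟩ := Nat.exists_eq_succ_of_ne_zero hn0
  obtain ⟨K, hK⟩ := Sylow.exists_subgroup_card_pow_prime (G := R) p (n := m)
    (by rw [hn]; exact pow_dvd_pow p (Nat.le_succ m))
  have hidx : K.index = p := by
    have h1 := K.card_mul_index
    rw [hK, hn, pow_succ] at h1
    exact Nat.eq_of_mul_eq_mul_left (pow_pos hp.pos m) h1
  have hKn : K.Normal := Subgroup.normal_of_index_eq_minFac_card (by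
    rw [hidx, hn, hp.pow_minFac (Nat.succ_ne_zero m)])
  have h2 : Nat.card (R ⧸ K) = p := hidx
  have h3 : Nat.card (Multiplicative (ZMod p)) = p := by
    rw [Nat.card_congr Multiplicative.toAdd, Nat.card_zmod]
  let e : R ⧸ K ≃* Multiplicative (ZMod p) := mulEquivOfPrimeCardEq h2 h3
  have h4 : K ≠ ⊤ := by
    rintro rfl
    rw [Subgroup.index_top] at hidx
    exact hp.one_lt.ne hidx
  obtain ⟨r, hr⟩ : ∃ r, r ∉ K := by
    by_contra hcon
    push Not at hcon
    exact h4 (eq_top_iff.2 fun r _ => hcon r)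
  refine ⟨e.toMonoidHom.comp (QuotientGroup.mk' K), r, fun h => hr ?_⟩
  have h5 : e (QuotientGroup.mk' K r) = e 1 := h.trans (map_one e).symm
  have h6 := e.injective h5
  exact (QuotientGroup.eq_one_iff r).1 h6

section

variable {p : ℕ} [Fact p.Prime] {Ω : Type*} [Field Ω] [CharP Ω p]
  {H : Type*} [Group H] [TopologicalSpace H] [IsTopologicalGroup H] [CompactSpace H]
  [MulSemiringAction H Ω]

open scoped IsMulCommutative in
theorem exists_lift (hstab : ∀ x : Ω, IsOpen (MulAction.stabilizer H x : Set H))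
    (hAS : ∀ a : Ω, ∃ x : Ω, x ^ p - x = a) {E : Type*} [Group E] (V : Subgroup E) [V.Normal]
    (hVc : ∀ v ∈ V, ∀ w ∈ V, v * w = w * v) (hVp : ∀ v ∈ V, v ^ p = 1) (φ : H →* E)
    (hφ : IsOpen (φ.ker : Set H)) (hJ : ∀ h : H, (∀ x : Ω, h • x = x) → φ h ∈ V) :
    ∃ ψ : H →* E, IsOpen (ψ.ker : Set H) ∧ (∀ h, (φ h)⁻¹ * ψ h ∈ V) ∧
      ∀ h : H, (∀ x : Ω, h • x = x) → ψ h = 1 := by
  have hcomm : IsMulCommutative V := ⟨⟨fun a b => Subtype.ext (hVc a a.2 b b.2)⟩⟩
  let _ : Module (ZMod p) (Additive V) := AddCommGroup.zmodModule (n := p) (fun x => by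
    apply Additive.toMul.injective
    exact Subtype.ext (hVp _ (Additive.toMul x).2))
  obtain ⟨ψ, h1, h2, h3⟩ := exists_lift_aux (Ω := Ω) hstab hAS (E := E) (M := Additive V)
    (fun x => (Additive.toMul x : V)) (fun x y => rfl)
    (fun x y h => Additive.toMul.injective (Subtype.ext h))
    (fun e x => ⟨Additive.ofMul ⟨_, (‹V.Normal›).conj_mem _ (Additive.toMul x).2 e⟩, rfl⟩) φ hφ
    (fun h hh => ⟨Additive.ofMul ⟨_, hJ h hh⟩, rfl⟩)
  refine ⟨ψ, h1, fun h => ?_, h3⟩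
  obtain ⟨x, hx⟩ := h2 h
  rw [← hx]
  exact (Additive.toMul x).2

/-- The intersection of the kernels of all homomorphisms to `ℤ/p`. -/
def phi (p : ℕ) {E : Type*} [Group E] (R : Subgroup E) : Subgroup E where
  carrier := {e | ∃ h : e ∈ R, ∀ f : R →* Multiplicative (ZMod p), f ⟨e, h⟩ = 1}
  one_mem' := ⟨R.one_mem, fun f => map_one f⟩
  mul_mem' := by
    rintro a b ⟨ha, ha'⟩ ⟨hb, hb'⟩
    refine ⟨R.mul_mem ha hb, fun f => ?_⟩
    have : (⟨a * b, R.mul_mem ha hb⟩ : R) = ⟨a, ha⟩ * ⟨b, hb⟩ := rfl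
    rw [this, map_mul, ha', hb', mul_one]
  inv_mem' := by
    rintro a ⟨ha, ha'⟩
    refine ⟨R.inv_mem ha, fun f => ?_⟩
    have : (⟨a⁻¹, R.inv_mem ha⟩ : R) = ⟨a, ha⟩⁻¹ := rfl
    rw [this, map_inv, ha', inv_one]

lemma phi_le (p : ℕ) {E : Type*} [Group E] (R : Subgroup E) : phi p R ≤ R := fun _ h => h.1

lemma phi_normal (p : ℕ) {E : Type*} [Group E] (R : Subgroup E) [hR : R.Normal] : (phi p R).Normal := by
  refine ⟨fun n hn g => ?_⟩
  obtain ⟨h1, h2⟩ := hn
  refine ⟨hR.conj_mem n h1 g, fun f => ?_⟩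
  have := h2 (f.comp (MulAut.conjNormal g : R ≃* R).toMonoidHom)
  exact this

variable [TotallyDisconnectedSpace H] [T2Space H]

/-- If the kernel of the action is a nontrivial pro-`p` group, it has a proper closed supplement. -/
theorem exists_proper (hstab : ∀ x : Ω, IsOpen (MulAction.stabilizer H x : Set H))
    (hAS : ∀ a : Ω, ∃ x : Ω, x ^ p - x = a) (J : Subgroup H)
    (hJ : ∀ h, h ∈ J ↔ ∀ x : Ω, h • x = x) (hJ1 : J ≠ ⊥)
    (hJp : ∀ (N : Subgroup H) [N.Normal], IsOpen (N : Set H) →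
      IsPGroup p (J.map (QuotientGroup.mk' N))) :
    ∃ H' : Subgroup H, IsClosed (H' : Set H) ∧ H' ≠ ⊤ ∧ ∀ h, ∃ j ∈ J, h * j ∈ H' := by
  have hJn : J.Normal := ⟨fun n hn g => by
    rw [hJ] at hn ⊢
    intro x
    rw [mul_smul, mul_smul, hn, smul_inv_smul]⟩
  obtain ⟨⟨j, hj⟩, hj1⟩ := Subgroup.ne_bot_iff_exists_ne_one.1 hJ1
  obtain ⟨N, hN⟩ := ProfiniteGrp.exist_openNormalSubgroup_sub_open_nhds_of_one
    (U := {j}ᶜ) (isOpen_compl_singleton) (fun h => hj1 (Subtype.ext h.symm))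
  have hNo : IsOpen ((N : Subgroup H) : Set H) := N.isOpen'
  have hNn : (N : Subgroup H).Normal := N.isNormal'
  have hjN : (j : H) ∉ (N : Subgroup H) := fun h => hN h rfl
  have hfin : Finite (H ⧸ (N : Subgroup H)) := (N : Subgroup H).quotient_finite_of_isOpen hNo
  let E0 := H ⧸ (N : Subgroup H)
  let R : Subgroup E0 := J.map (QuotientGroup.mk' (N : Subgroup H))
  have hRn : R.Normal := Subgroup.Normal.map hJn _ (QuotientGroup.mk'_surjective _)
  have hRp : IsPGroup p R := hJp N hNo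
  have hRnt : Nontrivial R := by
    refine ⟨⟨⟨_, ⟨j, hj, rfl⟩⟩, 1, fun h => hjN ?_⟩⟩
    have h1 := congrArg Subtype.val h
    exact (QuotientGroup.eq_one_iff (j : H)).1 h1
  obtain ⟨f, r, hfr⟩ := exists_hom_ne_one hRp
  let R' : Subgroup E0 := phi p R
  have hR'n : R'.Normal := phi_normal p R
  let E := E0 ⧸ R'
  let V : Subgroup E := R.map (QuotientGroup.mk' R')
  have hVn : V.Normal := Subgroup.Normal.map hRn _ (QuotientGroup.mk'_surjective _)
  let φ : H →* E := (QuotientGroup.mk' R').comp (QuotientGroup.mk' (N : Subgroup H))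
  have hφker : IsOpen (φ.ker : Set H) := by
    refine Subgroup.isOpen_mono (H₁ := (N : Subgroup H)) (fun h hh => ?_) hNo
    have h1 : QuotientGroup.mk' (N : Subgroup H) h = 1 := (QuotientGroup.eq_one_iff h).2 hh
    rw [MonoidHom.mem_ker, MonoidHom.comp_apply, h1, map_one]
  have hJV : ∀ h ∈ J, φ h ∈ V := fun h hh => ⟨_, ⟨h, hh, rfl⟩, rfl⟩
  have hVJ : ∀ v ∈ V, ∃ h ∈ J, φ h = v := by
    rintro _ ⟨_, ⟨h, hh, rfl⟩, rfl⟩
    exact ⟨h, hh, rfl⟩
  obtain ⟨ψ, hψ, hψφ, hψJ⟩ := exists_lift (p := p) (Ω := Ω) hstab hAS V (by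
      rintro _ ⟨a, ha, rfl⟩ _ ⟨b, hb, rfl⟩
      rw [← map_mul, ← map_mul]
      refine (QuotientGroup.eq (s := R')).2 ?_
      refine ⟨R.mul_mem (R.inv_mem (R.mul_mem ha hb)) (R.mul_mem hb ha), fun g => ?_⟩
      have h1 : (⟨(a * b)⁻¹ * (b * a), R.mul_mem (R.inv_mem (R.mul_mem ha hb)) (R.mul_mem hb ha)⟩ : R)
        = (⟨a, ha⟩ * ⟨b, hb⟩)⁻¹ * (⟨b, hb⟩ * ⟨a, ha⟩) := rfl
      rw [h1, map_mul, map_inv, map_mul, map_mul, mul_comm (g ⟨b, hb⟩), inv_mul_cancel])
    (by
      rintro _ ⟨a, ha, rfl⟩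
      rw [← map_pow]
      refine (QuotientGroup.eq_one_iff _).2 ?_
      refine ⟨R.pow_mem ha p, fun g => ?_⟩
      have h1 : (⟨a ^ p, R.pow_mem ha p⟩ : R) = ⟨a, ha⟩ ^ p := rfl
      rw [h1, map_pow]
      apply Multiplicative.toAdd.injective
      rw [toAdd_pow, toAdd_one, nsmul_eq_mul, CharP.cast_eq_zero, zero_mul]) φ hφker
    (fun h hh => hJV h ((hJ h).2 hh))
  let H' : Subgroup H := φ.eqLocus ψ
  have hH'o : IsOpen (H' : Set H) := by
    refine Subgroup.isOpen_mono (H₁ := φ.ker ⊓ ψ.ker) (fun h hh => ?_) (hφker.inter hψ)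
    change φ h = ψ h
    rw [(MonoidHom.mem_ker).1 hh.1, (MonoidHom.mem_ker).1 hh.2]
  refine ⟨H', H'.isClosed_of_isOpen hH'o, ?_, ?_⟩
  · intro htop
    obtain ⟨_, ⟨h, hh, rfl⟩⟩ := r
    have h1 : h ∈ H' := by rw [htop]; trivial
    have h2 : φ h = ψ h := h1
    rw [hψJ h ((hJ h).1 hh)] at h2
    have h3 : QuotientGroup.mk' (N : Subgroup H) h ∈ R' := (QuotientGroup.eq_one_iff _).1 h2
    exact hfr (h3.2 f)
  · intro h
    obtain ⟨j', hj', hφj'⟩ := hVJ _ (hψφ h)
    refine ⟨j', hj', ?_⟩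
    change φ (h * j') = ψ (h * j')
    rw [map_mul, map_mul, hφj', hψJ j' ((hJ j').1 hj'), mul_one, mul_inv_cancel_left]

end

/-- Minimal closed supplements exist. -/
theorem exists_minimal {G : Type*} [Group G] [TopologicalSpace G] [IsTopologicalGroup G]
    [CompactSpace G] (I : Subgroup G) (hI : IsClosed (I : Set G)) :
    ∃ H : Subgroup G, IsClosed (H : Set G) ∧ (∀ g, ∃ i ∈ I, g * i ∈ H) ∧
      ∀ H' : Subgroup G, IsClosed (H' : Set G) → (∀ g, ∃ i ∈ I, g * i ∈ H') → H' ≤ H → H' = H := by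
  let S : Set (Set G) := {s | ∃ H : Subgroup G, (H : Set G) = s ∧ IsClosed (H : Set G) ∧
    ∀ g, ∃ i ∈ I, g * i ∈ H}
  obtain ⟨m, hm⟩ := zorn_superset S (by
    intro c hc hchain
    rcases c.eq_empty_or_nonempty with rfl | hne
    · exact ⟨Set.univ, ⟨⊤, rfl, isClosed_univ, fun g => ⟨1, I.one_mem, trivial⟩⟩, by simp⟩
    · let H0 : Subgroup G := ⨅ H : {H : Subgroup G // (H : Set G) ∈ c}, H.1
      have hH0 : ∀ x, x ∈ H0 ↔ ∀ s ∈ c, x ∈ s := by
        intro x
        rw [Subgroup.mem_iInf]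
        constructor
        · intro h s hs
          obtain ⟨H, rfl, -⟩ := hc hs
          exact h ⟨H, hs⟩
        · intro h H
          exact h _ H.2
      have hH0' : (H0 : Set G) = ⋂₀ c := by
        ext x
        rw [Set.mem_sInter]
        exact hH0 x
      refine ⟨⋂₀ c, ⟨H0, hH0', ?_, ?_⟩, fun s hs => Set.sInter_subset_of_mem hs⟩
      · rw [hH0']
        refine isClosed_sInter fun s hs => ?_
        obtain ⟨H, rfl, h1, -⟩ := hc hs
        exact h1
      · intro g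
        have hcne : Nonempty c := hne.to_subtype
        have key := IsCompact.nonempty_iInter_of_directed_nonempty_isCompact_isClosed
          (fun s : c => (I : Set G) ∩ (fun i => g * i) ⁻¹' s.1) (by
            intro s t
            rcases hchain.total s.2 t.2 with h | h
            · exact ⟨s, subset_rfl, fun x hx => ⟨hx.1, h hx.2⟩⟩
            · exact ⟨t, fun x hx => ⟨hx.1, h hx.2⟩, subset_rfl⟩)
          (by
            rintro ⟨s, hs⟩
            obtain ⟨H, rfl, h1, h2⟩ := hc hs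
            obtain ⟨i, hi, hgi⟩ := h2 g
            exact ⟨i, hi, hgi⟩)
          (by
            rintro ⟨s, hs⟩
            obtain ⟨H, rfl, h1, h2⟩ := hc hs
            exact (hI.inter (h1.preimage (continuous_const_mul g))).isCompact)
          (by
            rintro ⟨s, hs⟩
            obtain ⟨H, rfl, h1, h2⟩ := hc hs
            exact hI.inter (h1.preimage (continuous_const_mul g)))
        obtain ⟨i, hi⟩ := key
        rw [Set.mem_iInter] at hi
        obtain ⟨s0, hs0⟩ := hne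
        exact ⟨i, (hi ⟨s0, hs0⟩).1, (hH0 _).2 fun s hs => (hi ⟨s, hs⟩).2⟩)
  obtain ⟨⟨H, rfl, hH1, hH2⟩, hmin⟩ := hm
  refine ⟨H, hH1, hH2, fun H' h1 h2 h3 => ?_⟩
  exact le_antisymm h3 (hmin (y := (H' : Set G)) ⟨H', rfl, h1, h2⟩ h3)

end K146.PEmbed
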