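import Groth.Agent.S1964
import Mathlib.RingTheory.Valuation.RamificationGroup
import Mathlib.RingTheory.Valuation.ValuationSubring
import Mathlib.RingTheory.DiscreteValuationRing.TFAE
import Mathlib.RingTheory.DedekindDomain.IntegralClosure
import Mathlib.FieldTheory.IsSepClosed
import Mathlib.RingTheory.Valuation.LocalSubring

/-!
# Valuation rings over a henselian discrete valuation ring

`mem_iff_isIntegral`: a valuation ring `B` of a separable algebraic extension `L` of the fraction field of a henselian
discrete valuation ring `A`, lying over `A`, is the integral closure of `A`.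
-/

set_option autoImplicit false
set_option linter.unusedSectionVars false
universe u

namespace K146.ValCl

variable {A K L : Type u} [CommRing A] [IsDomain A] [IsDiscreteValuationRing A]
  [Field K] [Algebra A K] [IsFractionRing A K] [Field L] [Algebra K L] [Algebra A L]
  [IsScalarTower A K L]

theorem isIntegral_or [HenselianLocalRing A] [Algebra.IsSeparable K L] (x : L) :
    IsIntegral A x ∨ IsIntegral A x⁻¹ := by
  let N : IntermediateField K L := IntermediateField.adjoin K {x}
  have hx : x ∈ N := IntermediateField.mem_adjoin_simple_self K x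
  have hfin : FiniteDimensional K N :=
    IntermediateField.adjoin.finiteDimensional (Algebra.IsIntegral.isIntegral x)
  have : Algebra.IsSeparable K N := inferInstance
  have : IsScalarTower A N L := IsScalarTower.of_algebraMap_eq fun a => rfl
  let C := integralClosure A N
  have h1 : IsDedekindDomain C := integralClosure.isDedekindDomain A K N
  obtain ⟨hH, -⟩ := Groth.Agent.S1964.result A C
  have h2 : IsLocalRing C := inferInstance
  have h3 : ValuationRing C :=
    ((tfae_of_isNoetherianRing_of_isLocalRing_of_isDomain C).out 1 2).2 h1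
  have h4 : IsFractionRing C N := integralClosure.isFractionRing_of_finite_extension K N
  have key : ∀ y : N, IsLocalization.IsInteger C y → IsIntegral A (y : L) := by
    rintro y ⟨c, rfl⟩
    have h5 : IsIntegral A (algebraMap C N c) := c.2
    exact h5.map (IsScalarTower.toAlgHom A N L)
  rcases ValuationRing.isInteger_or_isInteger C (⟨x, hx⟩ : N) with h | h
  · exact Or.inl (key _ h)
  · exact Or.inr (key _ h)

variable (B : ValuationSubring L)

theorem mem_of_isIntegral (hB : ∀ a : A, algebraMap A L a ∈ B) (x : L) (hx : IsIntegral A x) : x ∈ B := by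
  let f : A →+* B := (algebraMap A L).codRestrict B.toSubring hB
  let _ : Algebra A B := f.toAlgebra
  have : IsScalarTower A B L := IsScalarTower.of_algebraMap_eq fun a => rfl
  have h1 : IsIntegral B x := hx.tower_top
  obtain ⟨y, rfl⟩ := IsIntegrallyClosed.isIntegral_iff.1 h1
  exact y.2

theorem mem_iff_isIntegral [HenselianLocalRing A] [Algebra.IsSeparable K L]
    (hB : ∀ a : A, algebraMap A L a ∈ B)
    (hB' : ∀ a ∈ IsLocalRing.maximalIdeal A, a ≠ 0 → (algebraMap A L a)⁻¹ ∉ B) (x : L) :
    x ∈ B ↔ IsIntegral A x := by
  refine ⟨fun hx => ?_, mem_of_isIntegral B hB x⟩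
  by_contra hcon
  have h1 : IsIntegral A x⁻¹ := (isIntegral_or (K := K) x).resolve_left hcon
  let C := integralClosure A L
  rcases Groth.Agent.S1964.isUnit_or_pow_mem A C ⟨x⁻¹, h1⟩ with h2 | ⟨d, h2⟩
  · obtain ⟨c, hc⟩ := h2.exists_right_inv
    apply hcon
    have h3 : x⁻¹ * (c : L) = 1 := congrArg Subtype.val hc
    have h4 : (c : L) = x := by
      have hx0 : x⁻¹ ≠ 0 := left_ne_zero_of_mul_eq_one h3
      rw [← inv_inv x]
      exact (eq_inv_of_mul_eq_one_right h3)
    rw [← h4]
    exact c.2
  · -- the maximal ideal of `B`
    obtain ⟨ϖ, hϖ⟩ := IsDiscreteValuationRing.exists_irreducible A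
    have hm : IsLocalRing.maximalIdeal A = Ideal.span {ϖ} := hϖ.maximalIdeal_eq
    rw [hm, Ideal.map_span, Set.image_singleton, Ideal.mem_span_singleton'] at h2
    obtain ⟨c, hc⟩ := h2
    have h3 : (c : L) * algebraMap A L ϖ = (x⁻¹) ^ d := congrArg Subtype.val hc
    have hcB : (c : L) ∈ B := mem_of_isIntegral B hB _ c.2
    have hϖ0 : ϖ ≠ 0 := hϖ.ne_zero
    have hinj : Function.Injective (algebraMap A L) := by
      rw [IsScalarTower.algebraMap_eq A K L]
      exact (algebraMap K L).injective.comp (IsFractionRing.injective A K)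
    have hϖL : algebraMap A L ϖ ≠ 0 := fun h => hϖ0 (hinj (h.trans (map_zero _).symm))
    have hx0 : x ≠ 0 := by
      rintro rfl
      exact hcon isIntegral_zero
    apply hB' ϖ (by rw [hm]; exact Ideal.mem_span_singleton_self _) hϖ0
    have h4 : (algebraMap A L ϖ)⁻¹ = c * x ^ d := by
      rw [inv_pow] at h3
      field_simp at h3 ⊢
      exact h3.symm
    rw [h4]
    exact B.mul_mem _ _ hcB (pow_mem hx d)

end K146.ValCl
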