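import Groth.Agent.Hensel.K146.ProfSplit
import Groth.Agent.Hensel.K146.ValCl
import Mathlib.RingTheory.Invariant.Profinite
import Mathlib.FieldTheory.Galois.Infinite
import Mathlib.FieldTheory.Galois.Profinite
import Mathlib.Algebra.BigOperators.Field

/-!
# Splitting of the inertia extension of a henselian field
-/

set_option autoImplicit false
set_option linter.unusedSectionVars false
set_option linter.unusedVariables false
universe u

namespace K146.SepSplit

variable {K L : Type u} [Field K] [Field L] [Algebra K L] (B : ValuationSubring L)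

/-! ### Valuations -/

section Val

lemma val_lt_one_iff (b : B) : B.valuation b < 1 ↔ b ∈ IsLocalRing.maximalIdeal B :=
  (B.valuation_lt_one_iff b).symm

lemma val_eq_one_of_eq {x : L} {n : ℕ} (hn : n ≠ 0) (h : B.valuation x ^ n = 1) :
    B.valuation x = 1 := by
  exact (pow_eq_one_iff_of_nonneg zero_le hn).1 h

end Val

/-- The inertia subgroup of the Galois group. -/
def inert : Subgroup (L ≃ₐ[K] L) where
  carrier := {σ | (∀ b ∈ B, σ b ∈ B) ∧ (∀ b ∈ B, σ.symm b ∈ B) ∧ ∀ b ∈ B, B.valuation (σ b - b) < 1}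
  one_mem' := by
    refine ⟨fun b hb => hb, fun b hb => hb, fun b hb => ?_⟩
    change B.valuation (b - b) < 1
    rw [sub_self, map_zero]
    exact zero_lt_one
  mul_mem' := by
    rintro σ τ ⟨h1, h2, h3⟩ ⟨h4, h5, h6⟩
    refine ⟨fun b hb => h1 _ (h4 b hb), fun b hb => h5 _ (h2 b hb), fun b hb => ?_⟩
    have : (σ * τ) b - b = (σ (τ b) - τ b) + (τ b - b) := by
      change σ (τ b) - b = _
      ring
    rw [this]
    exact B.valuation.map_add_lt (h3 _ (h4 b hb)) (h6 b hb)
  inv_mem' := by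
    rintro σ ⟨h1, h2, h3⟩
    refine ⟨h2, h1, fun b hb => ?_⟩
    have h4 := h3 _ (h2 b hb)
    have h5 : σ (σ.symm b) = b := σ.apply_symm_apply b
    rw [h5] at h4
    rw [← B.valuation.map_neg, neg_sub]
    exact h4

section Stable

variable {B} (hst : ∀ (σ : L ≃ₐ[K] L) (x : L), σ x ∈ B ↔ x ∈ B)

include hst

lemma lt_one_iff (σ : L ≃ₐ[K] L) (x : L) : B.valuation (σ x) < 1 ↔ B.valuation x < 1 := by
  have key : ∀ y : L, B.valuation y < 1 ↔ y = 0 ∨ y⁻¹ ∉ B := by
    intro y
    by_cases hy : y = 0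
    · simp [hy]
    · rw [← B.valuation_le_one_iff, map_inv₀, inv_le_one₀ (zero_lt_iff.2 ((map_ne_zero _).2 hy)),
        not_le]
      simp [hy]
  rw [key, key, ← map_inv₀, hst, map_eq_zero_iff σ σ.injective]

lemma exists_pow_apply_eq [Algebra.IsSeparable K L] [Normal K L] (σ : L ≃ₐ[K] L) (x : L) :
    ∃ n : ℕ, n ≠ 0 ∧ (σ ^ n) x = x := by
  have : Algebra.IsIntegral K L := inferInstance
  have h1 := stabilizer_isOpen_of_isIntegral (K := K) (L := L) x
  have : IsGalois K L := { }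
  have h2 : Finite ((L ≃ₐ[K] L) ⧸ MulAction.stabilizer (L ≃ₐ[K] L) x) :=
    (MulAction.stabilizer (L ≃ₐ[K] L) x).quotient_finite_of_isOpen h1
  obtain ⟨n, hn, -, h3⟩ := Subgroup.exists_pow_mem_of_index_ne_zero
    (H := MulAction.stabilizer (L ≃ₐ[K] L) x) (Subgroup.index_ne_zero_of_finite) σ
  exact ⟨n, hn.ne', h3⟩

lemma val_apply [Algebra.IsSeparable K L] [Normal K L] (σ : L ≃ₐ[K] L) (x : L) :
    B.valuation (σ x) = B.valuation x := by
  by_cases hx : x = 0
  · rw [hx, map_zero]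
  have hσx : σ x ≠ 0 := (map_ne_zero σ).2 hx
  obtain ⟨n, hn, hnx⟩ := exists_pow_apply_eq hst σ x
  have key : ∀ y : L, y ≠ 0 → (σ ^ n) y = y → ¬ B.valuation (σ y) < B.valuation y := by
    intro y hy hny hlt
    have hr : B.valuation (σ y / y) < 1 := by
      rw [map_div₀]
      exact (div_lt_one₀ (zero_lt_iff.2 ((map_ne_zero _).2 hy))).2 hlt
    have hall : ∀ i : ℕ, B.valuation ((σ ^ (i + 1)) y) < B.valuation ((σ ^ i) y) := by
      intro i
      have h1 := (lt_one_iff hst (σ ^ i) (σ y / y)).2 hr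
      rw [map_div₀, map_div₀] at h1
      have h2 : (σ ^ i) y ≠ 0 := (map_ne_zero _).2 hy
      have h3 := (div_lt_one₀ (zero_lt_iff.2 ((map_ne_zero B.valuation).2 h2))).1 h1
      rwa [pow_succ]
    have hmono : StrictAnti fun i : ℕ => B.valuation ((σ ^ i) y) := strictAnti_nat_of_succ_lt hall
    have h4 := hmono (Nat.pos_of_ne_zero hn)
    simp only [pow_zero, hny] at h4
    exact lt_irrefl _ h4
  refine le_antisymm (not_lt.1 fun h => ?_) (not_lt.1 (key x hx hnx))
  apply key x⁻¹ (inv_ne_zero hx) (by rw [map_inv₀, hnx])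
  rw [map_inv₀, map_inv₀, map_inv₀]
  exact (inv_lt_inv₀ (zero_lt_iff.2 ((map_ne_zero _).2 hσx))
    (zero_lt_iff.2 ((map_ne_zero _).2 hx))).2 h

end Stable

section Dist

variable (M : IntermediateField K L) {ℓ : ℕ} (hℓ : ℓ.Prime) {x a : L} (hx : x ^ ℓ = a) (haM : a ∈ M)
  (hno : ∀ b ∈ M, b ≠ 0 → B.valuation a ≠ B.valuation b ^ ℓ) (ha : a ≠ 0)

include hℓ hx haM hno ha

lemma val_pow_ne {i : ℕ} (hi : 0 < i) (hiℓ : i < ℓ) (m : L) (hm : m ∈ M) (hm0 : m ≠ 0) :
    B.valuation x ^ i ≠ B.valuation m := by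
  intro h
  have hx0 : x ≠ 0 := by
    rintro rfl
    rw [zero_pow hℓ.ne_zero] at hx
    exact ha hx.symm
  have hcop : Nat.gcd i ℓ = 1 :=
    Nat.Coprime.symm ((Nat.Prime.coprime_iff_not_dvd hℓ).2 fun hd => absurd (Nat.le_of_dvd hi hd) (not_le.2 hiℓ))
  have hbez := Nat.gcd_eq_gcd_ab i ℓ
  rw [hcop, Nat.cast_one] at hbez
  set u := Nat.gcdA i ℓ
  set w := Nat.gcdB i ℓ
  have hvx : B.valuation x ≠ 0 := (map_ne_zero _).2 hx0
  have h1 : B.valuation x = B.valuation (m ^ u * a ^ w) := by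
    rw [map_mul, map_zpow₀, map_zpow₀, ← h, ← hx, map_pow, ← zpow_natCast, ← zpow_natCast,
      ← zpow_mul, ← zpow_mul, ← zpow_add₀ hvx, ← hbez, zpow_one]
  refine hno (m ^ u * a ^ w) (mul_mem (zpow_mem hm u) (zpow_mem haM w))
    (mul_ne_zero (zpow_ne_zero _ hm0) (zpow_ne_zero _ ha)) ?_
  rw [← h1, ← hx, map_pow]

lemma val_mul_pow_ne {i j : ℕ} (hij : i < j) (hjℓ : j < ℓ) (m m' : L) (hm : m ∈ M) (hm' : m' ∈ M)
    (hm0 : m ≠ 0) (hm0' : m' ≠ 0) : B.valuation (m * x ^ i) ≠ B.valuation (m' * x ^ j) := by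
  intro h
  have hx0 : x ≠ 0 := by
    rintro rfl
    rw [zero_pow hℓ.ne_zero] at hx
    exact ha hx.symm
  refine val_pow_ne B M hℓ hx haM hno ha (i := j - i) (by omega) (by omega) (m / m')
    (div_mem hm hm') (div_ne_zero hm0 hm0') ?_
  have h1 : x ^ j = x ^ (j - i) * x ^ i := by rw [← pow_add]; congr 1; omega
  rw [h1, ← mul_assoc, map_mul, map_mul, map_mul] at h
  have h2 : B.valuation (x ^ i) ≠ 0 := (map_ne_zero _).2 (pow_ne_zero _ hx0)
  have h3 := mul_right_cancel₀ h2 h
  rw [map_div₀, h3, map_pow, mul_div_cancel_left₀ _ ((map_ne_zero _).2 hm0')]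

/-- The residue field does not change. -/
lemma exists_residue (c : ℕ → L) (hc : ∀ i, c i ∈ M)
    (hs : (∑ i ∈ Finset.range ℓ, c i * x ^ i) ∈ B) :
    c 0 ∈ B ∧ B.valuation ((∑ i ∈ Finset.range ℓ, c i * x ^ i) - c 0) < 1 := by
  classical
  have hx0 : x ≠ 0 := by
    rintro rfl
    rw [zero_pow hℓ.ne_zero] at hx
    exact ha hx.symm
  have hzero : 0 ∈ Finset.range ℓ := Finset.mem_range.2 hℓ.pos
  obtain ⟨j, hj, hjmax⟩ := Finset.exists_max_image (Finset.range ℓ)
    (fun i => B.valuation (c i * x ^ i)) ⟨0, hzero⟩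
  have hdist : ∀ i ∈ Finset.range ℓ, i ≠ j → B.valuation (c j * x ^ j) ≠ 0 →
      B.valuation (c i * x ^ i) < B.valuation (c j * x ^ j) := by
    intro i hi hij hne
    refine lt_of_le_of_ne (hjmax i hi) fun heq => ?_
    have hci : c i ≠ 0 := by
      intro h0
      rw [h0, zero_mul, map_zero] at heq
      exact hne heq.symm
    have hcj : c j ≠ 0 := by
      intro h0
      rw [h0, zero_mul, map_zero] at hne
      exact hne rfl
    rcases lt_or_gt_of_ne hij with h | h
    · exact val_mul_pow_ne B M hℓ hx haM hno ha h (Finset.mem_range.1 hj) _ _ (hc i) (hc j) hci hcj heq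
    · exact val_mul_pow_ne B M hℓ hx haM hno ha h (Finset.mem_range.1 hi) _ _ (hc j) (hc i) hcj hci heq.symm
  have hle : B.valuation (c j * x ^ j) ≤ 1 := by
    by_cases hne : B.valuation (c j * x ^ j) = 0
    · rw [hne]; exact zero_le_one
    · have h1 := B.valuation.map_sum_eq_of_lt (s := Finset.range ℓ) (f := fun i => c i * x ^ i) hj
        (fun i hi => by
          rw [Finset.mem_sdiff, Finset.mem_singleton] at hi
          exact hdist i hi.1 hi.2 hne)
      rw [← h1]
      exact (B.valuation_le_one_iff _).2 hs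
  have hall : ∀ i ∈ Finset.range ℓ, i ≠ 0 → B.valuation (c i * x ^ i) < 1 := by
    intro i hi hi0
    refine lt_of_le_of_ne ((hjmax i hi).trans hle) fun h1 => ?_
    have hci : c i ≠ 0 := by
      intro h0
      rw [h0, zero_mul, map_zero] at h1
      exact zero_ne_one h1
    refine val_pow_ne B M hℓ hx haM hno ha (i := i) (Nat.pos_of_ne_zero hi0) (Finset.mem_range.1 hi)
      (c i)⁻¹ (inv_mem (hc i)) (inv_ne_zero hci) ?_
    rw [map_mul, map_pow] at h1
    rw [map_inv₀]
    exact eq_inv_of_mul_eq_one_right h1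
  refine ⟨?_, ?_⟩
  · rw [← B.valuation_le_one_iff]
    have := (hjmax 0 hzero).trans hle
    simpa using this
  · rw [Finset.sum_eq_add_sum_sdiff_singleton_of_mem hzero, pow_zero, mul_one, add_sub_cancel_left]
    refine B.valuation.map_sum_lt one_ne_zero fun i hi => ?_
    rw [Finset.mem_sdiff, Finset.mem_singleton] at hi
    exact hall i hi.1 hi.2

end Dist

section Group

variable {B} (hst : ∀ (σ : L ≃ₐ[K] L) (x : L), σ x ∈ B ↔ x ∈ B)

/-- The action of the Galois group on a stable valuation ring. -/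
@[reducible] def actB : MulSemiringAction (L ≃ₐ[K] L) B where
  smul := fun σ b => ⟨σ b, (hst σ b).2 b.2⟩
  one_smul := fun b => Subtype.ext rfl
  mul_smul := fun _ _ _ => Subtype.ext rfl
  smul_zero := fun σ => Subtype.ext (map_zero σ)
  smul_add := fun σ a b => Subtype.ext (map_add σ _ _)
  smul_one := fun σ => Subtype.ext (map_one σ)
  smul_mul := fun σ a b => Subtype.ext (map_mul σ _ _)

include hst in
theorem exists_mem_of_fixed [IsGalois K L] (H' : Subgroup (L ≃ₐ[K] L)) (hcl : IsClosed (H' : Set (L ≃ₐ[K] L)))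
    (σ : L ≃ₐ[K] L)
    (hres : ∀ s ∈ B, (∀ τ ∈ H', τ s = s) → B.valuation (σ s - s) < 1) :
    ∃ i ∈ inert (K := K) B, σ * i ∈ H' := by
  let _ := actB hst
  have hcomp : CompactSpace H' := isCompact_iff_compactSpace.1 hcl.isCompact
  let _ : TopologicalSpace B := ⊥
  have hdisc : DiscreteTopology B := ⟨rfl⟩
  have hcs : ContinuousSMul (L ≃ₐ[K] L) B := by
    rw [continuousSMul_iff_stabilizer_isOpen]
    intro b
    have h1 := stabilizer_isOpen_of_isIntegral (K := K) (L := L) (b : L)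
    have h2 : (MulAction.stabilizer (L ≃ₐ[K] L) b : Set (L ≃ₐ[K] L)) =
      (MulAction.stabilizer (L ≃ₐ[K] L) (b : L) : Set (L ≃ₐ[K] L)) := by
      ext g
      exact ⟨fun h => congrArg Subtype.val h, fun h => Subtype.ext h⟩
    rw [h2]
    exact h1
  let S : Subring B := FixedPoints.subring B H'
  let Q : Ideal B := IsLocalRing.maximalIdeal B
  let P : Ideal S := Q.under S
  have hinv : Algebra.IsInvariant S B H' := ⟨fun b hb => ⟨⟨b, hb⟩, rfl⟩⟩
  have hσQ : Q = Q.map (MulSemiringAction.toRingEquiv (L ≃ₐ[K] L) B σ : B →+* B) := by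
    have h1 : (Q.map (MulSemiringAction.toRingEquiv (L ≃ₐ[K] L) B σ)).IsMaximal :=
      Ideal.map_isMaximal_of_equiv _
    exact (IsLocalRing.eq_maximalIdeal h1).symm
  let e : (B ⧸ Q) ≃+* (B ⧸ Q) := Ideal.quotientEquiv Q Q (MulSemiringAction.toRingEquiv (L ≃ₐ[K] L) B σ) hσQ
  let e' : (B ⧸ Q) ≃ₐ[S ⧸ P] (B ⧸ Q) := AlgEquiv.ofRingEquiv (f := e) (by
    intro x
    obtain ⟨x, rfl⟩ := Ideal.Quotient.mk_surjective x
    change Ideal.Quotient.mk Q (σ • (x : B)) = Ideal.Quotient.mk Q (x : B)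
    rw [Ideal.Quotient.eq]
    refine (B.valuation_lt_one_iff _).2 ?_
    exact hres _ (x : B).2 fun τ hτ => congrArg Subtype.val (x.2 ⟨τ, hτ⟩))
  obtain ⟨τ, hτ⟩ := Ideal.Quotient.stabilizerHom_surjective_of_profinite (G := H') P Q e'
  have key : ∀ b ∈ B, B.valuation ((τ : H').1 b - σ b) < 1 := by
    intro b hb
    have h1 := AlgEquiv.congr_fun hτ (Ideal.Quotient.mk Q ⟨b, hb⟩)
    change Ideal.Quotient.mk Q ((τ : H').1 • (⟨b, hb⟩ : B)) = Ideal.Quotient.mk Q (σ • (⟨b, hb⟩ : B)) at h1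
    rw [Ideal.Quotient.eq] at h1
    exact (B.valuation_lt_one_iff _).1 h1
  refine ⟨σ⁻¹ * (τ : H').1, ⟨fun b hb => (hst _ _).2 hb, fun b hb => (hst _ _).2 hb, fun b hb => ?_⟩, ?_⟩
  · have h1 : (σ⁻¹ * (τ : H').1) b - b = σ⁻¹ ((τ : H').1 b - σ b) := by
      rw [map_sub]
      congr 1
      exact (σ.symm_apply_apply b).symm
    rw [h1, lt_one_iff hst]
    exact key b hb
  · rw [mul_inv_cancel_left]
    exact (τ : H').2

/-- Elements of `M(x)`, `x ^ ℓ ∈ M`. -/
theorem exists_coeffs [IsGalois K L] (M : IntermediateField K L) {ℓ : ℕ} (hℓ : ℓ ≠ 0) {x a : L}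
    (hx : x ^ ℓ = a) (haM : a ∈ M) (s : L)
    (hs : ∀ τ ∈ M.fixingSubgroup, τ x = x → τ s = s) :
    ∃ c : ℕ → L, (∀ i, c i ∈ M) ∧ s = ∑ i ∈ Finset.range ℓ, c i * x ^ i := by
  let E : IntermediateField K L := (IntermediateField.adjoin M {x}).restrictScalars K
  have h1 : s ∈ E := by
    rw [← InfiniteGalois.fixedField_fixingSubgroup E, IntermediateField.mem_fixedField_iff]
    intro τ hτ
    have h2 : ∀ y ∈ E, τ y = y := fun y hy => by
      have := (IntermediateField.mem_fixingSubgroup_iff E τ).1 hτ y hy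
      exact this
    refine hs τ ?_ (h2 x (IntermediateField.mem_adjoin_simple_self M x))
    rw [IntermediateField.mem_fixingSubgroup_iff]
    intro y hy
    exact h2 y ((IntermediateField.adjoin M {x}).algebraMap_mem ⟨y, hy⟩)
  have h2 : s ∈ (IntermediateField.adjoin M {x}).toSubalgebra := h1
  have hint : IsIntegral M x := Algebra.IsIntegral.isIntegral x
  rw [IntermediateField.adjoin_simple_toSubalgebra_of_isAlgebraic hint.isAlgebraic,
    Algebra.adjoin_singleton_eq_range_aeval] at h2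
  obtain ⟨P, hP⟩ := h2
  let q : Polynomial M := Polynomial.X ^ ℓ - Polynomial.C ⟨a, haM⟩
  have hq : q.Monic := Polynomial.monic_X_pow_sub_C _ hℓ
  have hqx : Polynomial.aeval x q = 0 := by
    simp only [q, map_sub, map_pow, Polynomial.aeval_X, Polynomial.aeval_C]
    rw [hx]
    exact sub_self a
  have hdeg : (P %ₘ q).natDegree < ℓ := by
    have h3 : q.natDegree = ℓ := Polynomial.natDegree_X_pow_sub_C
    have h4 := Polynomial.natDegree_modByMonic_lt P hq (by
      intro h5
      rw [h5, Polynomial.natDegree_one] at h3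
      exact hℓ h3.symm)
    rwa [h3] at h4
  refine ⟨fun i => ((P %ₘ q).coeff i : L), fun i => ((P %ₘ q).coeff i).2, ?_⟩
  have h3 : Polynomial.aeval x (P %ₘ q) = s := by
    rw [Polynomial.aeval_modByMonic_eq_self_of_root hqx]
    exact hP
  rw [← h3, Polynomial.aeval_eq_sum_range' hdeg]
  rfl

include hst in
theorem tame_step [IsGalois K L] [IsSepClosed L] (H : Subgroup (L ≃ₐ[K] L))
    (hcl : IsClosed (H : Set (L ≃ₐ[K] L)))
    (hmin : ∀ H' : Subgroup (L ≃ₐ[K] L), IsClosed (H' : Set (L ≃ₐ[K] L)) → H' ≤ H →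
      (∀ h ∈ H, ∃ i ∈ inert (K := K) B, h * i ∈ H') → H' = H)
    {ℓ : ℕ} (hℓ : ℓ.Prime) (hℓB : B.valuation (ℓ : L) = 1) (a : L) (ha0 : a ≠ 0)
    (ha : ∀ h ∈ H, h a = a) :
    ∃ b : L, b ≠ 0 ∧ (∀ h ∈ H, h b = b) ∧ B.valuation a = B.valuation b ^ ℓ := by
  by_contra hcon
  push Not at hcon
  have hℓ0 : NeZero (ℓ : L) := ⟨fun h => by rw [h, map_zero] at hℓB; exact zero_ne_one hℓB⟩
  obtain ⟨x, hx⟩ := IsSepClosed.exists_pow_nat_eq a ℓ
  let M : IntermediateField K L := IntermediateField.fixedField H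
  have hM : ∀ y, y ∈ M ↔ ∀ h ∈ H, h y = y := fun y => IntermediateField.mem_fixedField_iff _ _
  have hMH : M.fixingSubgroup = H :=
    InfiniteGalois.fixingSubgroup_fixedField (⟨H, hcl⟩ : ClosedSubgroup (L ≃ₐ[K] L))
  have hxst : IsClosed (MulAction.stabilizer (L ≃ₐ[K] L) x : Set (L ≃ₐ[K] L)) :=
    Subgroup.isClosed_of_isOpen _ (stabilizer_isOpen_of_isIntegral x)
  let H' : Subgroup (L ≃ₐ[K] L) := H ⊓ MulAction.stabilizer (L ≃ₐ[K] L) x
  have hno : ∀ b ∈ M, b ≠ 0 → B.valuation a ≠ B.valuation b ^ ℓ := fun b hb hb0 =>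
    hcon b hb0 ((hM b).1 hb)
  have haM : a ∈ M := (hM a).2 ha
  have hH' := hmin H' (hcl.inter hxst) inf_le_left (fun σ hσ => by
    refine exists_mem_of_fixed hst H' (hcl.inter hxst) σ fun s hs hsf => ?_
    obtain ⟨c, hc, hsc⟩ := exists_coeffs M hℓ.ne_zero hx haM s (fun τ hτ hτx => by
      rw [hMH] at hτ
      exact hsf τ ⟨hτ, hτx⟩)
    rw [hsc] at hs
    obtain ⟨h1, h2⟩ := exists_residue B M hℓ hx haM hno ha0 c hc hs
    rw [← hsc] at h2
    have h3 : σ s - s = (σ (s - c 0) - (s - c 0)) + (σ (c 0) - c 0) := by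
      rw [map_sub]; ring
    rw [h3, (hM _).1 (hc 0) σ hσ, sub_self, add_zero]
    exact B.valuation.map_sub_lt ((lt_one_iff hst σ _).2 h2) h2)
  have hxH : ∀ h ∈ H, h x = x := by
    intro h hh
    rw [← hH'] at hh
    exact hh.2
  have hx0 : x ≠ 0 := by
    rintro rfl
    rw [zero_pow hℓ.ne_zero] at hx
    exact ha0 hx.symm
  exact hcon x hx0 hxH (by rw [← hx, map_pow])

lemma val_natCast_le (n : ℕ) : B.valuation (n : L) ≤ 1 :=
  (B.valuation_le_one_iff _).2 (natCast_mem B n)

/-- Divisibility of the value group of the fixed field by all integers which are units. -/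
theorem tame_steps {H : Subgroup (L ≃ₐ[K] L)}
    (hstep : ∀ ℓ : ℕ, ℓ.Prime → B.valuation (ℓ : L) = 1 → ∀ a : L, a ≠ 0 → (∀ h ∈ H, h a = a) →
      ∃ b : L, b ≠ 0 ∧ (∀ h ∈ H, h b = b) ∧ B.valuation a = B.valuation b ^ ℓ)
    (m : ℕ) (hm : B.valuation (m : L) = 1) (a : L) (ha0 : a ≠ 0) (ha : ∀ h ∈ H, h a = a) :
    ∃ b : L, b ≠ 0 ∧ (∀ h ∈ H, h b = b) ∧ B.valuation a = B.valuation b ^ m := by
  induction m using Nat.strong_induction_on generalizing a with
  | _ m ih =>
    by_cases h1 : m = 1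
    · subst h1
      exact ⟨a, ha0, ha, by rw [pow_one]⟩
    have hm0 : m ≠ 0 := by
      rintro rfl
      rw [Nat.cast_zero, map_zero] at hm
      exact zero_ne_one hm
    obtain ⟨m', hm'⟩ := Nat.minFac_dvd m
    have hℓ := Nat.minFac_prime h1
    set ℓ := m.minFac
    have hm'0 : m' ≠ 0 := by
      rintro rfl
      rw [mul_zero] at hm'
      exact hm0 hm'
    have hv : B.valuation (ℓ : L) * B.valuation (m' : L) = 1 := by
      rw [← map_mul, ← Nat.cast_mul, ← hm', hm]
    have h2 : B.valuation (ℓ : L) = 1 := by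
      refine le_antisymm (val_natCast_le ℓ) ?_
      calc (1 : B.ValueGroup) = B.valuation (ℓ : L) * B.valuation (m' : L) := hv.symm
        _ ≤ B.valuation (ℓ : L) * 1 := mul_le_mul_right (val_natCast_le m') _
        _ = _ := mul_one _
    have h3 : B.valuation (m' : L) = 1 := by rw [h2, one_mul] at hv; exact hv
    obtain ⟨b, hb0, hb, hab⟩ := hstep ℓ hℓ h2 a ha0 ha
    obtain ⟨c, hc0, hc, hbc⟩ := ih m' (by
      rw [hm']
      exact lt_mul_of_one_lt_left (Nat.pos_of_ne_zero hm'0) hℓ.one_lt) h3 b hb0 hb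
    exact ⟨c, hc0, hc, by rw [hab, hbc, ← pow_mul, mul_comm, ← hm']⟩

include hst in
/-- Some power of the value of an element is the value of an element of the fixed field. -/
theorem exists_val_pow [IsGalois K L] (H : Subgroup (L ≃ₐ[K] L)) (x : L) (hx : x ≠ 0) :
    ∃ n : ℕ, n ≠ 0 ∧ ∃ a : L, a ≠ 0 ∧ (∀ h ∈ H, h a = a) ∧ B.valuation a = B.valuation x ^ n := by
  classical
  have h1 := stabilizer_isOpen_of_isIntegral (K := K) (L := L) x
  have h2 : Finite ((L ≃ₐ[K] L) ⧸ MulAction.stabilizer (L ≃ₐ[K] L) x) :=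
    (MulAction.stabilizer (L ≃ₐ[K] L) x).quotient_finite_of_isOpen h1
  have h3 : Finite (MulAction.orbit (L ≃ₐ[K] L) x) :=
    Finite.of_equiv _ (MulAction.orbitEquivQuotientStabilizer (L ≃ₐ[K] L) x).symm
  have h4 : (MulAction.orbit H x).Finite := by
    refine Set.Finite.subset (Set.toFinite (MulAction.orbit (L ≃ₐ[K] L) x)) ?_
    rintro _ ⟨h, rfl⟩
    exact ⟨h.1, rfl⟩
  let S : Finset L := h4.toFinset
  have hS : ∀ y, y ∈ S ↔ ∃ h ∈ H, h x = y := by
    intro y
    rw [Set.Finite.mem_toFinset]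
    constructor
    · rintro ⟨h, rfl⟩
      exact ⟨h.1, h.2, rfl⟩
    · rintro ⟨h, hh, rfl⟩
      exact ⟨⟨h, hh⟩, rfl⟩
  have hxS : x ∈ S := (hS x).2 ⟨1, H.one_mem, rfl⟩
  have hvS : ∀ y ∈ S, B.valuation y = B.valuation x := by
    intro y hy
    obtain ⟨h, -, rfl⟩ := (hS y).1 hy
    exact val_apply hst h x
  have hS0 : ∀ y ∈ S, y ≠ 0 := by
    intro y hy
    obtain ⟨h, -, rfl⟩ := (hS y).1 hy
    exact (map_ne_zero h).2 hx
  refine ⟨S.card, (Finset.card_pos.2 ⟨x, hxS⟩).ne', ∏ y ∈ S, y, Finset.prod_ne_zero_iff.2 hS0, ?_, ?_⟩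
  · intro h hh
    rw [map_prod]
    refine Finset.prod_bij (fun y _ => h y) ?_ ?_ ?_ ?_
    · intro y hy
      obtain ⟨g, hg, rfl⟩ := (hS y).1 hy
      exact (hS _).2 ⟨h * g, H.mul_mem hh hg, rfl⟩
    · intro y _ z _ hyz
      exact h.injective hyz
    · intro z hz
      obtain ⟨g, hg, rfl⟩ := (hS z).1 hz
      refine ⟨(h⁻¹ * g) x, (hS _).2 ⟨h⁻¹ * g, H.mul_mem (H.inv_mem hh) hg, rfl⟩, ?_⟩
      exact h.apply_symm_apply (g x)
    · intro y _
      rfl
  · rw [map_prod, Finset.prod_congr rfl hvS, Finset.prod_const]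

include hst in
/-- Elements of the inertia group which fix a field with tamely divisible value group act trivially on all graded
pieces. -/
theorem wild_of_div [IsGalois K L] (q : ℕ) [ExpChar (IsLocalRing.ResidueField B) q]
    (H : Subgroup (L ≃ₐ[K] L))
    (hdiv : ∀ m : ℕ, B.valuation (m : L) = 1 → ∀ a : L, a ≠ 0 → (∀ h ∈ H, h a = a) →
      ∃ b : L, b ≠ 0 ∧ (∀ h ∈ H, h b = b) ∧ B.valuation a = B.valuation b ^ m)
    (hfac : ∀ n : ℕ, n ≠ 0 → ∃ k m : ℕ, n = q ^ k * m ∧ B.valuation (m : L) = 1)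
    (σ : L ≃ₐ[K] L) (hσH : σ ∈ H) (hσ : σ ∈ inert (K := K) B) (x : L) :
    x ≠ 0 → B.valuation (σ x / x - 1) < 1 := by
  intro hx
  obtain ⟨n, hn, a, ha0, ha, hav⟩ := exists_val_pow hst H x hx
  obtain ⟨k, m, rfl, hm⟩ := hfac n hn
  have hm0 : m ≠ 0 := by
    rintro rfl
    rw [Nat.cast_zero, map_zero] at hm
    exact zero_ne_one hm
  obtain ⟨b, hb0, hb, hab⟩ := hdiv m hm a ha0 ha
  have hu : B.valuation (x ^ (q ^ k) / b) = 1 := by
    refine val_eq_one_of_eq B hm0 ?_
    rw [map_div₀, div_pow, map_pow, ← pow_mul, ← hav, hab, div_self]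
    exact pow_ne_zero _ ((map_ne_zero _).2 hb0)
  set u := x ^ (q ^ k) / b with hudef
  have hu0 : u ≠ 0 := div_ne_zero (pow_ne_zero _ hx) hb0
  have huB : u ∈ B := (B.valuation_le_one_iff _).1 hu.le
  have h1 : B.valuation (σ u / u - 1) < 1 := by
    have h2 : σ u / u - 1 = (σ u - u) / u := by rw [sub_div, div_self hu0]
    rw [h2, map_div₀, hu, div_one]
    exact hσ.2.2 u huB
  have h2 : σ u / u = (σ x / x) ^ (q ^ k) := by
    rw [hudef, map_div₀, map_pow, hb σ hσH, div_pow, div_div_div_cancel_right₀ hb0]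
  rw [h2] at h1
  have hz : B.valuation (σ x / x) = 1 := by
    rw [map_div₀, val_apply hst, div_self ((map_ne_zero _).2 hx)]
  set z : B := ⟨σ x / x, (B.valuation_le_one_iff _).1 hz.le⟩ with hzdef
  have h3 : IsLocalRing.residue B (z ^ (q ^ k) - 1) = 0 := by
    rw [IsLocalRing.residue_eq_zero_iff]
    exact (B.valuation_lt_one_iff _).2 h1
  have h4 : (IsLocalRing.residue B (z - 1)) ^ (q ^ k) = 0 := by
    rw [map_sub, map_one, sub_pow_expChar_pow, one_pow, ← map_pow, ← map_one (IsLocalRing.residue B),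
      ← map_sub, h3]
  have h5 := eq_zero_of_pow_eq_zero h4
  rw [IsLocalRing.residue_eq_zero_iff] at h5
  exact (B.valuation_lt_one_iff _).1 h5

/-- Elements which act trivially on all graded pieces have no prime-to-`p` torsion in the quotients. -/
theorem mem_of_pow_mem [IsGalois K L] (N : Subgroup (L ≃ₐ[K] L))
    (hN : IsClosed (N : Set (L ≃ₐ[K] L))) (j : L ≃ₐ[K] L)
    (hj : ∀ i : ℕ, ∀ x : L, x ≠ 0 → B.valuation ((j ^ i) x / x - 1) < 1) (m : ℕ)
    (hm : B.valuation (m : L) = 1) (hjm : j ^ m ∈ N) : j ∈ N := by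
  let F : IntermediateField K L := IntermediateField.fixedField N
  have hF : ∀ y, y ∈ F ↔ ∀ h ∈ N, h y = y := fun y => IntermediateField.mem_fixedField_iff _ _
  have hFN : F.fixingSubgroup = N :=
    InfiniteGalois.fixingSubgroup_fixedField (⟨N, hN⟩ : ClosedSubgroup (L ≃ₐ[K] L))
  rw [← hFN, IntermediateField.mem_fixingSubgroup_iff]
  intro x hx
  have hm0 : (m : L) ≠ 0 := by
    intro h
    rw [h, map_zero] at hm
    exact zero_ne_one hm
  have hjx : (j ^ m) x = x := (hF x).1 hx _ hjm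
  set T : L := ∑ i ∈ Finset.range m, (j ^ i) x with hT
  have hjT : j T = T := by
    have h1 : j T = ∑ i ∈ Finset.range m, (j ^ (i + 1)) x := by
      rw [hT, map_sum]
      refine Finset.sum_congr rfl fun i _ => ?_
      rw [pow_succ']
      rfl
    have h2 := Finset.sum_range_succ (fun i => (j ^ i) x) m
    have h3 := Finset.sum_range_succ' (fun i => (j ^ i) x) m
    rw [h1]
    rw [h2, pow_zero, hjx] at h3
    exact (add_right_cancel h3).symm
  have hjT' : ∀ i : ℕ, (j ^ i) T = T := by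
    intro i
    induction i with
    | zero => rfl
    | succ i ih => rw [pow_succ']; change j ((j ^ i) T) = T; rw [ih, hjT]
  set y : L := m * x - T with hy
  have hsum : ∑ i ∈ Finset.range m, (j ^ i) y = 0 := by
    have h1 : ∀ i ∈ Finset.range m, (j ^ i) y = m * (j ^ i) x - T := fun i _ => by
      rw [hy, map_sub, map_mul, map_natCast, hjT']
    rw [Finset.sum_congr rfl h1, Finset.sum_sub_distrib, ← Finset.mul_sum, ← hT, Finset.sum_const,
      Finset.card_range, nsmul_eq_mul, sub_self]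
  have hy0 : y = 0 := by
    by_contra hyne
    have h1 : ∑ i ∈ Finset.range m, ((j ^ i) y / y - 1) = - m := by
      rw [Finset.sum_sub_distrib, ← Finset.sum_div, hsum, zero_div, Finset.sum_const,
        Finset.card_range, nsmul_eq_mul, mul_one, zero_sub]
    have h2 : B.valuation (∑ i ∈ Finset.range m, ((j ^ i) y / y - 1)) < 1 :=
      B.valuation.map_sum_lt one_ne_zero fun i _ => hj i y hyne
    rw [h1, B.valuation.map_neg, hm] at h2
    exact lt_irrefl _ h2
  have h1 : (m : L) * x = T := sub_eq_zero.1 hy0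
  have h2 : (m : L) * j x = m * x := by
    rw [h1, ← hjT, ← h1, map_mul, map_natCast]
  exact mul_left_cancel₀ hm0 h2

end Group

section Main

variable {B} (hst : ∀ (σ : L ≃ₐ[K] L) (x : L), σ x ∈ B ↔ x ∈ B)

include hst in
theorem isClosed_inert [IsGalois K L] : IsClosed (inert (K := K) B : Set (L ≃ₐ[K] L)) := by
  let _ : TopologicalSpace L := ⊥
  have hdisc : DiscreteTopology L := ⟨rfl⟩
  have hcs : ContinuousSMul (L ≃ₐ[K] L) L := by
    rw [continuousSMul_iff_stabilizer_isOpen]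
    exact fun x => stabilizer_isOpen_of_isIntegral x
  have h1 : (inert (K := K) B : Set (L ≃ₐ[K] L)) =
      ⋂ b ∈ B, (fun σ : L ≃ₐ[K] L => σ • b) ⁻¹' {y | B.valuation (y - b) < 1} := by
    ext σ
    simp only [Set.mem_iInter]
    constructor
    · intro h b hb
      exact h.2.2 b hb
    · intro h
      exact ⟨fun b hb => (hst _ _).2 hb, fun b hb => (hst _ _).2 hb, fun b hb => h b hb⟩
  rw [h1]
  refine isClosed_biInter fun b hb => ?_
  exact (isClosed_discrete _).preimage (by fun_prop)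

theorem artinSchreier_closed [IsSepClosed L] {p : ℕ} [Fact p.Prime]
    [CharP (IsLocalRing.ResidueField B) p] (a : IsLocalRing.ResidueField B) :
    ∃ x : IsLocalRing.ResidueField B, x ^ p - x = a := by
  obtain ⟨a, rfl⟩ := IsLocalRing.residue_surjective a
  have hp : p.Prime := Fact.out
  -- the polynomial over `L`
  let f : Polynomial L := Polynomial.X ^ p - Polynomial.X - Polynomial.C (a : L)
  have hdeg : f.natDegree = p := by
    have : f = Polynomial.X ^ p - (Polynomial.X + Polynomial.C (a : L)) := by ring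
    rw [this]
    rw [Polynomial.natDegree_sub_eq_left_of_natDegree_lt]
    · exact Polynomial.natDegree_X_pow p
    · rw [Polynomial.natDegree_X_pow, Polynomial.natDegree_X_add_C]
      exact hp.one_lt
  have hroot : ∃ x : L, f.eval x = 0 := by
    obtain ⟨r, hr⟩ := CharP.exists L
    rcases Nat.eq_zero_or_pos r with rfl | hrpos
    · have : CharZero L := CharP.charP_to_charZero L
      have : PerfectField L := inferInstance
      have : IsAlgClosed L := IsSepClosed.isAlgClosed_of_perfectField L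
      obtain ⟨x, hx⟩ := IsAlgClosed.exists_root f (by
        intro h0
        have := Polynomial.natDegree_eq_zero_iff_degree_le_zero.2 h0.le
        rw [hdeg] at this
        exact hp.ne_zero this)
      exact ⟨x, hx⟩
    · have hr0 : (r : IsLocalRing.ResidueField B) = 0 := by
        have h1 : (r : B) = 0 := Subtype.ext (by
          have := CharP.cast_eq_zero L r
          simpa using this)
        rw [← map_natCast (IsLocalRing.residue B), h1, map_zero]
      have hpr : p ∣ r := (CharP.cast_eq_zero_iff _ p r).1 hr0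
      have hrp : r.Prime := (CharP.char_is_prime_or_zero L r).resolve_right hrpos.ne'
      have hpr' : p = r := (Nat.prime_dvd_prime_iff_eq hp hrp).1 hpr
      subst hpr'
      have hsep : f.Separable := by
        have hder : Polynomial.derivative f = -1 := by
          have h1 : Polynomial.derivative (Polynomial.X ^ p : Polynomial L) = 0 := by
            rw [Polynomial.derivative_X_pow, CharP.cast_eq_zero, map_zero, zero_mul]
          simp [f, h1]
        rw [Polynomial.separable_def, hder]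
        exact isCoprime_one_right.neg_right
      obtain ⟨x, hx⟩ := IsSepClosed.exists_root f (by
        intro h0
        have := Polynomial.natDegree_eq_zero_iff_degree_le_zero.2 h0.le
        rw [hdeg] at this
        exact hp.ne_zero this) hsep
      exact ⟨x, hx⟩
  obtain ⟨x, hx⟩ := hroot
  have hx' : x ^ p - x - a = 0 := by
    simpa [f] using hx
  have hxB : x ∈ B := by
    have hint : IsIntegral B x := by
      refine ⟨Polynomial.X ^ p - (Polynomial.X + Polynomial.C a), ?_, ?_⟩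
      · apply Polynomial.monic_X_pow_sub
        rw [Polynomial.degree_X_add_C]
        exact_mod_cast hp.one_lt
      · rw [Polynomial.eval₂_sub, Polynomial.eval₂_add, Polynomial.eval₂_X_pow, Polynomial.eval₂_X,
          Polynomial.eval₂_C]
        rw [← hx']
        change _ - (x + (a : L)) = _
        ring
    obtain ⟨y, rfl⟩ := IsIntegrallyClosed.isIntegral_iff.1 hint
    exact y.2
  refine ⟨IsLocalRing.residue B ⟨x, hxB⟩, ?_⟩
  rw [← map_pow, ← map_sub]
  congr 1
  exact Subtype.ext (by simpa [sub_eq_zero] using hx')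

lemma natCast_val_eq_one (m : ℕ) (hm : (m : IsLocalRing.ResidueField B) ≠ 0) :
    B.valuation (m : L) = 1 := by
  refine le_antisymm (val_natCast_le m) (not_lt.1 fun h => hm ?_)
  rw [← map_natCast (IsLocalRing.residue B), IsLocalRing.residue_eq_zero_iff]
  exact (B.valuation_lt_one_iff _).2 h

lemma exists_fac (q : ℕ) [hq : ExpChar (IsLocalRing.ResidueField B) q] (n : ℕ) (hn : n ≠ 0) :
    ∃ k m : ℕ, n = q ^ k * m ∧ B.valuation (m : L) = 1 := by
  rcases hq with hq | hq
  · exact ⟨0, n, by simp, natCast_val_eq_one n (Nat.cast_ne_zero.2 hn)⟩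
  · rename_i hc
    obtain ⟨k, m, hm, hnm⟩ := Nat.exists_eq_pow_mul_and_not_dvd hn q hq.ne_one
    exact ⟨k, m, hnm, natCast_val_eq_one m fun h => hm ((CharP.cast_eq_zero_iff _ q m).1 h)⟩

include hst in
/-- The inertia group has a closed complement. -/
theorem exists_complement [IsGalois K L] [IsSepClosed L] :
    ∃ H : Subgroup (L ≃ₐ[K] L), IsClosed (H : Set (L ≃ₐ[K] L)) ∧ H ⊓ inert (K := K) B = ⊥ ∧
      ∀ g, ∃ i ∈ inert (K := K) B, g * i ∈ H := by
  obtain ⟨H, hcl, hsup, hmin⟩ := K146.PEmbed.exists_minimal (inert (K := K) B) (isClosed_inert hst)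
  refine ⟨H, hcl, ?_, hsup⟩
  have hmin' : ∀ H' : Subgroup (L ≃ₐ[K] L), IsClosed (H' : Set (L ≃ₐ[K] L)) → H' ≤ H →
      (∀ h ∈ H, ∃ i ∈ inert (K := K) B, h * i ∈ H') → H' = H := by
    intro H' h1 h2 h3
    refine hmin H' h1 (fun g => ?_) h2
    obtain ⟨i, hi, hgi⟩ := hsup g
    obtain ⟨i', hi', hgi'⟩ := h3 _ hgi
    exact ⟨i * i', mul_mem hi hi', by rw [← mul_assoc]; exact hgi'⟩
  obtain ⟨q, hq⟩ := ExpChar.exists (IsLocalRing.ResidueField B)
  have hwild : ∀ σ ∈ H, σ ∈ inert (K := K) B → ∀ x : L, x ≠ 0 → B.valuation (σ x / x - 1) < 1 :=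
    fun σ hσH hσ x => wild_of_div hst q H (fun m hm a ha0 ha =>
      tame_steps (fun ℓ hℓ hℓB a ha0 ha => tame_step hst H hcl hmin' hℓ hℓB a ha0 ha) m hm a ha0 ha)
      (exists_fac q) σ hσH hσ x
  have hpow : ∀ N : Subgroup (L ≃ₐ[K] L), IsClosed (N : Set (L ≃ₐ[K] L)) → ∀ j ∈ H,
      j ∈ inert (K := K) B → ∀ m : ℕ, B.valuation (m : L) = 1 → j ^ m ∈ N → j ∈ N :=
    fun N hN j hjH hj m hm hjm => mem_of_pow_mem N hN j
      (fun i x hx => hwild _ (pow_mem hjH i) (pow_mem hj i) x hx) m hm hjm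
  have hcomp : CompactSpace H := isCompact_iff_compactSpace.1 hcl.isCompact
  let J : Subgroup H := (inert (K := K) B).subgroupOf H
  have hfinidx : ∀ N : Subgroup H, IsOpen (N : Set H) → ∀ j : H, ∃ n : ℕ, n ≠ 0 ∧ j ^ n ∈ N := by
    intro N hN j
    have : Finite (H ⧸ N) := N.quotient_finite_of_isOpen hN
    obtain ⟨n, hn, -, h3⟩ := Subgroup.exists_pow_mem_of_index_ne_zero
      (H := N) (Subgroup.index_ne_zero_of_finite) j
    exact ⟨n, hn.ne', h3⟩
  have hmapcl : ∀ N : Subgroup H, IsClosed (N : Set H) →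
      IsClosed ((N.map H.subtype : Subgroup (L ≃ₐ[K] L)) : Set (L ≃ₐ[K] L)) := by
    intro N hN
    rw [Subgroup.coe_map]
    exact hcl.isClosedEmbedding_subtypeVal.isClosedMap _ hN
  have hpow' : ∀ N : Subgroup H, IsOpen (N : Set H) → ∀ j ∈ J, ∀ m : ℕ, B.valuation (m : L) = 1 →
      j ^ m ∈ N → j ∈ N := by
    intro N hN j hj m hm hjm
    have h1 := hpow (N.map H.subtype) (hmapcl N (N.isClosed_of_isOpen hN)) j j.2 hj m hm
      ⟨j ^ m, hjm, rfl⟩
    obtain ⟨j', hj', hjj'⟩ := h1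
    have : j' = j := Subtype.ext hjj'
    rwa [← this]
  by_contra hne
  have hJ1 : J ≠ ⊥ := by
    intro hJ
    apply hne
    rw [eq_bot_iff]
    intro σ hσ
    have h1 : (⟨σ, hσ.1⟩ : H) ∈ J := hσ.2
    rw [hJ, Subgroup.mem_bot] at h1
    exact congrArg Subtype.val h1
  rcases hq with hq | hq
  · -- residue characteristic zero
    apply hJ1
    rw [eq_bot_iff]
    intro j hj
    rw [Subgroup.mem_bot]
    by_contra hj1
    obtain ⟨N, hN⟩ := ProfiniteGrp.exist_openNormalSubgroup_sub_open_nhds_of_one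
      (U := {j}ᶜ) (isOpen_compl_singleton) (fun h => hj1 h.symm)
    obtain ⟨n, hn, hjn⟩ := hfinidx (N : Subgroup H) N.isOpen' j
    have := hpow' (N : Subgroup H) N.isOpen' j hj n
      (natCast_val_eq_one n (Nat.cast_ne_zero.2 hn)) hjn
    exact hN this rfl
  · rename_i hc
    have hfact : Fact q.Prime := ⟨hq⟩
    let _ := actB hst
    have hsmul : ∀ (h : H) (b : B), h • IsLocalRing.residue B b = IsLocalRing.residue B (h.1 • b) :=
      fun h b => rfl
    obtain ⟨H'', h1, h2, h3⟩ := K146.PEmbed.exists_proper (p := q) (H := H)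
      (Ω := IsLocalRing.ResidueField B) (by
        intro y
        obtain ⟨b, rfl⟩ := IsLocalRing.residue_surjective y
        have hst := stabilizer_isOpen_of_isIntegral (K := K) (L := L) (b : L)
        refine Subgroup.isOpen_mono (H₁ := (MulAction.stabilizer (L ≃ₐ[K] L) (b : L)).subgroupOf H)
          (fun h hh => ?_) (hst.preimage continuous_subtype_val)
        change h • IsLocalRing.residue B b = _
        rw [hsmul]
        congr 1
        exact Subtype.ext hh)
      (artinSchreier_closed (B := B) (p := q)) J (by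
        intro h
        constructor
        · intro hh y
          obtain ⟨b, rfl⟩ := IsLocalRing.residue_surjective y
          rw [hsmul, ← sub_eq_zero, ← map_sub, IsLocalRing.residue_eq_zero_iff]
          exact (B.valuation_lt_one_iff _).2 (hh.2.2 b b.2)
        · intro hh
          refine ⟨fun b hb => (hst _ _).2 hb, fun b hb => (hst _ _).2 hb, fun b hb => ?_⟩
          have h4 := hh (IsLocalRing.residue B ⟨b, hb⟩)
          rw [hsmul, ← sub_eq_zero, ← map_sub, IsLocalRing.residue_eq_zero_iff] at h4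
          exact (B.valuation_lt_one_iff _).1 h4) hJ1 (by
        intro N _ hN
        rintro ⟨_, j, hj, rfl⟩
        obtain ⟨n, hn, hjn⟩ := hfinidx N hN j
        obtain ⟨k, m, rfl, hm⟩ := exists_fac (B := B) q n hn
        refine ⟨k, Subtype.ext ?_⟩
        change (QuotientGroup.mk' N j) ^ (q ^ k) = 1
        rw [← map_pow]
        refine (QuotientGroup.eq_one_iff _).2 ?_
        refine hpow' N hN _ (pow_mem hj _) m hm ?_
        rwa [← pow_mul])
    apply h2
    have h4 := hmin' (H''.map H.subtype) (hmapcl H'' h1) (by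
      rintro _ ⟨h, -, rfl⟩
      exact h.2) (fun h hh => by
        obtain ⟨j, hj, hhj⟩ := h3 ⟨h, hh⟩
        exact ⟨j, hj, ⟨_, hhj, rfl⟩⟩)
    rw [eq_top_iff]
    intro h _
    have h5 : (h : L ≃ₐ[K] L) ∈ H''.map H.subtype := by rw [h4]; exact h.2
    obtain ⟨h', hh', hhh'⟩ := h5
    have : h' = h := Subtype.ext hhh'
    rwa [← this]

end Main

end K146.SepSplit
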